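import Cfsg.Agent.Lib.Elem16.Orbits
import Cfsg.Agent.Lib.Blk7.KleinFour
import Cfsg.Agent.Lib.Blocks12.StableBlock
import Cfsg.Agent.Lib.BrauerPairs.PrincipalPair
import Cfsg.Agent.Lib.Blocks.DefectInduced
import Cfsg.Agent.Lib.BlockCover.DefectGroup
import Cfsg.Agent.Lib.Transfer.NormalComplement
import Cfsg.Agent.Lib.Transfer.Basic
import Cfsg.Agent.Lib.PCore.Basic

/-!
# Local structure for an elementary abelian Sylow 2-subgroup of order 16 and inertial index 9
-/

set_option autoImplicit false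
set_option linter.unusedSectionVars false
set_option linter.style.haveILetI false

noncomputable section

namespace CfsgLib.Elem16

open Cfsg CfsgLib.Characters CfsgLib.Blocks CfsgLib.Blk7 Subgroup
open scoped Classical commutatorElement

universe u

variable {G : Type u} [Group G] [Fintype G]

/-- The properties of a short side in the group. -/
structure GSide (P : Sylow 2 G) (W W' : Subgroup G) : Prop where
  le : W ≤ (P : Subgroup G)
  card : Nat.card W = 4
  closed : ∀ x ∈ W, ∀ g : G, g * x * g⁻¹ ∈ (P : Subgroup G) → g * x * g⁻¹ ∈ W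
  conj : ∀ x ∈ W, x ≠ 1 → ∀ x' ∈ W, x' ≠ 1 → IsConj x x'
  fix : ∀ n ∈ normalizer ((P : Subgroup G) : Set G), ∀ y ∈ W, y ≠ 1 → n * y = y * n →
    ∀ w ∈ W, n * w = w * n
  rot : ∀ y ∈ W, y ≠ 1 → ∀ w ∈ W', w ≠ 1 → ∀ w' ∈ W', w' ≠ 1 →
    ∃ n ∈ normalizer ((P : Subgroup G) : Set G), n * y = y * n ∧ n * w * n⁻¹ = w'

/-- The local structure. -/
structure Frame (P : Sylow 2 G) (W W' : Subgroup G) : Prop where
  side : GSide P W W'
  side' : GSide P W' W
  disjoint : W ⊓ W' = ⊥
  split : ∀ x ∈ (P : Subgroup G), ∃ w ∈ W, ∃ w' ∈ W', x = w * w'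
  sq : ∀ x ∈ (P : Subgroup G), x * x = 1
  card : Nat.card P = 16
  conjFree : ∀ x ∈ (P : Subgroup G), x ∉ W → x ∉ W' → ∀ x' ∈ (P : Subgroup G), x' ∉ W → x' ∉ W' →
    IsConj x x'
  stabFree : ∀ x ∈ (P : Subgroup G), x ∉ W → x ∉ W' →
    ∀ n ∈ normalizer ((P : Subgroup G) : Set G), n * x = x * n →
      n ∈ centralizer ((P : Subgroup G) : Set G)

theorem comm_of_sq {K : Subgroup G} (h : ∀ x ∈ K, x * x = 1) :
    ∀ x ∈ K, ∀ y ∈ K, x * y = y * x := by
  intro x hx y hy
  calc x * y = (x * y) * ((y * x) * (y * x)) := by rw [h _ (mul_mem hy hx), mul_one]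
    _ = x * (y * y) * x * (y * x) := by group
    _ = y * x := by rw [h y hy, mul_one, h x hx, one_mul]

/-- Fusion in an abelian Sylow subgroup. -/
theorem exists_normalizer_conj (P : Sylow 2 G) (hsq : ∀ x ∈ (P : Subgroup G), x * x = 1)
    {x g : G} (hx : x ∈ (P : Subgroup G)) (hg : g * x * g⁻¹ ∈ (P : Subgroup G)) :
    ∃ n ∈ normalizer ((P : Subgroup G) : Set G), n * x * n⁻¹ = g * x * g⁻¹ := by
  haveI : IsMulCommutative (P : Subgroup G) :=
    ⟨⟨fun a b => Subtype.ext (comm_of_sq hsq _ a.2 _ b.2)⟩⟩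
  obtain ⟨n, hn, he⟩ := Sylow.conj_eq_normalizer_conj_of_mem P x g⁻¹ hx (by rwa [inv_inv])
  exact ⟨n⁻¹, inv_mem hn, by rw [inv_inv] at he ⊢; exact he.symm⟩

theorem gSide_of_side (P : Sylow 2 G) (hsq : ∀ x ∈ (P : Subgroup G), x * x = 1)
    {V V' : Subgroup (P : Subgroup G)}
    (h : Side (P : Subgroup G).normalizerMonoidHom.range V V') :
    GSide P (V.map (P : Subgroup G).subtype) (V'.map (P : Subgroup G).subtype) := by
  have hf : ∀ (n : normalizer ((P : Subgroup G) : Set G)) (x : (P : Subgroup G)),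
      (((P : Subgroup G).normalizerMonoidHom n x : (P : Subgroup G)) : G) =
        (n : G) * x * (n : G)⁻¹ := fun n x => rfl
  refine ⟨?_, ?_, ?_, ?_, ?_, ?_⟩
  · rintro _ ⟨x, -, rfl⟩; exact x.2
  · rw [card_map_of_injective (subtype_injective _)]; exact h.card
  · rintro _ ⟨x, hx, rfl⟩ g hg
    obtain ⟨n, hn, he⟩ := exists_normalizer_conj P hsq x.2 hg
    exact ⟨_, h.inv _ ⟨⟨n, hn⟩, rfl⟩ x hx, he⟩
  · rintro _ ⟨x, hx, rfl⟩ hx1 _ ⟨x', hx', rfl⟩ hx'1
    obtain ⟨_, ⟨n, rfl⟩, he⟩ := h.trans x hx (fun e => hx1 (by rw [e]; rfl)) x' hx'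
      (fun e => hx'1 (by rw [e]; rfl))
    exact isConj_iff.2 ⟨n, by rw [Subgroup.coe_subtype, ← hf, he]⟩
  · rintro n hn _ ⟨y, hy, rfl⟩ hy1 hc _ ⟨w, hw, rfl⟩
    have h1 := h.fix _ ⟨⟨n, hn⟩, rfl⟩ y hy (fun e => hy1 (by rw [e]; rfl))
      (Subtype.ext (by rw [hf]; exact mul_inv_eq_iff_eq_mul.2 hc)) w hw
    exact mul_inv_eq_iff_eq_mul.1 (congrArg Subtype.val h1)
  · rintro _ ⟨y, hy, rfl⟩ hy1 _ ⟨w, hw, rfl⟩ hw1 _ ⟨w', hw', rfl⟩ hw'1
    obtain ⟨_, ⟨n, rfl⟩, h1, h2⟩ := h.rot y hy (fun e => hy1 (by rw [e]; rfl)) w hw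
      (fun e => hw1 (by rw [e]; rfl)) w' hw' (fun e => hw'1 (by rw [e]; rfl))
    exact ⟨n, n.2, mul_inv_eq_iff_eq_mul.1 (congrArg Subtype.val h1), congrArg Subtype.val h2⟩

/-- The frame exists. -/
theorem exists_frame (P : Sylow 2 G) (hcard : Nat.card P = 16) (hel : ∀ x : P, x ^ 2 = 1)
    (he : (centralizer ((P : Subgroup G) : Set G)).relIndex
      (normalizer ((P : Subgroup G) : Set G)) = 9) :
    ∃ W W' : Subgroup G, Frame P W W' := by
  set f := (P : Subgroup G).normalizerMonoidHom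
  have hE : Nat.card f.range = 9 := by
    rw [← index_ker, normalizerMonoidHom_ker]; exact he
  have hsq : ∀ x ∈ (P : Subgroup G), x * x = 1 := fun x hx => by
    simpa [sq] using congrArg Subtype.val (hel ⟨x, hx⟩)
  obtain ⟨V, V', h, h', hd, hfree⟩ := exists_sides (V := (P : Subgroup G)) hcard hE
  have hmem : ∀ {U : Subgroup (P : Subgroup G)} {x : G} (hx : x ∈ (P : Subgroup G)),
      x ∈ U.map (P : Subgroup G).subtype ↔ (⟨x, hx⟩ : (P : Subgroup G)) ∈ U := fun {U x} hx =>
    ⟨fun ⟨z, hz, e⟩ => by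
      have : z = ⟨x, hx⟩ := Subtype.ext e
      exact this ▸ hz, fun hz => ⟨_, hz, rfl⟩⟩
  refine ⟨_, _, gSide_of_side P hsq h, gSide_of_side P hsq h', ?_, ?_, hsq, hcard, ?_, ?_⟩
  · rw [← map_inf_eq _ _ _ (subtype_injective _), hd, Subgroup.map_bot]
  · intro x hx
    have hc : IsComplement' V V' := isComplement'_of_card_mul_and_disjoint
      (by rw [h.card, h'.card, hcard]) (disjoint_iff.2 hd)
    obtain ⟨⟨⟨w, hw⟩, ⟨w', hw'⟩⟩, he'⟩ := hc.2 ⟨x, hx⟩
    exact ⟨w, ⟨w, hw, rfl⟩, w', ⟨w', hw', rfl⟩, (congrArg Subtype.val he').symm⟩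
  · intro x hx h1 h2 x' hx' h1' h2'
    rw [hmem hx] at h1 h2
    rw [hmem hx'] at h1' h2'
    obtain ⟨_, ⟨n, rfl⟩, hn⟩ := (hfree _ h1 h2).1 _ h1' h2'
    exact isConj_iff.2 ⟨n, congrArg Subtype.val hn⟩
  · intro x hx h1 h2 n hn hc
    rw [hmem hx] at h1 h2
    have h3 := (hfree _ h1 h2).2 _ ⟨⟨n, hn⟩, rfl⟩
      (Subtype.ext (show n * x * n⁻¹ = x from mul_inv_eq_iff_eq_mul.2 hc))
    have h4 : (⟨n, hn⟩ : normalizer ((P : Subgroup G) : Set G)) ∈ f.ker := MonoidHom.mem_ker.2 h3
    rwa [normalizerMonoidHom_ker, mem_subgroupOf] at h4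

variable {P : Sylow 2 G} {W W' : Subgroup G} {M : Ideal AlgInt}

theorem Frame.swap (F : Frame P W W') : Frame P W' W where
  side := F.side'
  side' := F.side
  disjoint := by rw [inf_comm]; exact F.disjoint
  split x hx := by
    obtain ⟨w, hw, w', hw', rfl⟩ := F.split x hx
    exact ⟨w', hw', w, hw, comm_of_sq F.sq _ (F.side.le hw) _ (F.side'.le hw')⟩
  sq := F.sq
  card := F.card
  conjFree x hx h1 h2 x' hx' h1' h2' := F.conjFree x hx h2 h1 x' hx' h2' h1'
  stabFree x hx h1 h2 := F.stabFree x hx h2 h1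

theorem Frame.two_element_sq (F : Frame P W W') {x : G} (hx : ∃ k : ℕ, orderOf x = 2 ^ k) :
    x * x = 1 :=
  Blk7.two_element_sq P (fun z => Subtype.ext (F.sq z z.2)) hx

theorem Frame.le_centralizer (F : Frame P W W') {x : G} (hx : x ∈ (P : Subgroup G)) :
    (P : Subgroup G) ≤ Subgroup.centralizer ({x} : Set G) := fun z hz =>
  mem_centralizer_singleton_iff.2 (comm_of_sq F.sq z hz x hx)

/-- The centraliser of an element outside both sides has a normal 2-complement. -/
theorem Frame.complement_free (F : Frame P W W') {x : G} (hx : x ∈ (P : Subgroup G)) (h1 : x ∉ W)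
    (h2 : x ∉ W') : Cfsg.HasNormalPComplement 2 ↥(Subgroup.centralizer ({x} : Set G)) := by
  set C := Subgroup.centralizer ({x} : Set G)
  refine CfsgLib.Transfer.hasNormalPComplement_of_normalizer_le (P.subtype (F.le_centralizer hx)) ?_
  intro n hn
  have hnG : (n : G) ∈ normalizer ((P : Subgroup G) : Set G) := by
    refine mem_normalizer_iff.2 fun z => ⟨fun hz => ?_, fun hz => ?_⟩
    · exact mem_subgroupOf.1 ((mem_normalizer_iff.1 hn ⟨z, F.le_centralizer hx hz⟩).1 hz)
    · have hzC : z ∈ C := by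
        have h3 := mul_mem (mul_mem (inv_mem n.2) (F.le_centralizer hx hz)) n.2
        simpa [mul_assoc] using h3
      exact (mem_normalizer_iff.1 hn ⟨z, hzC⟩).2 (mem_subgroupOf.2 hz)
  have h3 := F.stabFree x hx h1 h2 n hnG (mem_centralizer_singleton_iff.1 n.2)
  refine mem_centralizer_iff.2 fun z hz => Subtype.ext ?_
  exact mem_centralizer_iff.1 h3 z hz

theorem rank_one_of_complement {H : Type u} [Group H] [Fintype H] (hM : IsPModular 2 M)
    (h : Cfsg.HasNormalPComplement 2 H) : blockRank 2 (principalBlock M H) = 1 := by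
  haveI : Fact (Nat.Prime 2) := ⟨Nat.prime_two⟩
  haveI := CfsgLib.Transfer.pResidual_normal (G := H) (p := 2)
  exact blockRank_principal_of_complement hM (CfsgLib.Transfer.hasNormalPComplement_iff.1 h)
    fun y hy => CfsgLib.Transfer.mem_pResidual
      (Nat.Coprime.symm (Nat.prime_two.coprime_iff_not_dvd.2 hy))

theorem core_index_of_complement {H : Type u} [Group H] [Fintype H]
    (h : Cfsg.HasNormalPComplement 2 H) : ∃ k : ℕ, (pPrimeCore 2 H).index = 2 ^ k := by
  haveI : Fact (Nat.Prime 2) := ⟨Nat.prime_two⟩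
  have hle : pResidual 2 H ≤ pPrimeCore 2 H :=
    CfsgLib.PCore.le_pPrimeCore_of_not_dvd CfsgLib.Transfer.pResidual_normal
      (CfsgLib.Transfer.hasNormalPComplement_iff.1 h)
  obtain ⟨k, hk⟩ := CfsgLib.Transfer.pResidual_index_eq_pow (G := H) (p := 2)
  obtain ⟨i, -, hi⟩ := (Nat.dvd_prime_pow Nat.prime_two).1 (hk ▸ index_dvd_of_le hle)
  exact ⟨i, hi⟩

/-- The centraliser of a nontrivial element of a side has rank three. -/
theorem Frame.rank_side (F : Frame P W W') (hM : IsPModular 2 M) {y : G} (hy : y ∈ W) (hy1 : y ≠ 1) :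
    blockRank 2 (principalBlock M ↥(Subgroup.centralizer ({y} : Set G))) = 3 := by
  haveI : Fact (Nat.Prime 2) := ⟨Nat.prime_two⟩
  set C := Subgroup.centralizer ({y} : Set G) with hC
  have hPC : (P : Subgroup G) ≤ C := F.le_centralizer (F.side.le hy)
  set Pc : Sylow 2 C := P.subtype hPC
  set Wc : Subgroup C := W'.subgroupOf C
  have hW'C : W' ≤ C := F.side'.le.trans hPC
  have hmemP : ∀ z : C, z ∈ (Pc : Subgroup C) ↔ (z : G) ∈ (P : Subgroup G) := fun z => mem_subgroupOf
  haveI : IsMulCommutative (Pc : Subgroup C) :=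
    ⟨⟨fun a b => Subtype.ext (Subtype.ext
      (comm_of_sq F.sq _ ((hmemP _).1 a.2) _ ((hmemP _).1 b.2)))⟩⟩
  -- the focal subgroup is `W'`
  have hWP : Wc ≤ (Pc : Subgroup C) := fun z hz => (hmemP z).2 (F.side'.le hz)
  have hfocal : (Pc : Subgroup C).focalSubgroup = Wc := by
    apply le_antisymm
    · refine (CfsgLib.Transfer.focalSubgroup_le_of_controls
        (K := normalizer ((Pc : Subgroup C) : Set C)) ?_).trans ?_
      · intro z hz g hg
        obtain ⟨n, hn, he⟩ := Sylow.conj_eq_normalizer_conj_of_mem Pc z g⁻¹ hz (by rwa [inv_inv])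
        exact ⟨n⁻¹, inv_mem hn, by rw [inv_inv] at he ⊢; exact he.symm⟩
      · rw [commutator_le]
        intro z hz n hn
        obtain ⟨w, hw, w', hw', he⟩ := F.split (z : G) ((hmemP z).1 hz)
        have hnG : (n : G) ∈ normalizer ((P : Subgroup G) : Set G) := by
          refine mem_normalizer_iff.2 fun t => ⟨fun ht => ?_, fun ht => ?_⟩
          · exact (hmemP _).1 ((mem_normalizer_iff.1 hn ⟨t, hPC ht⟩).1 ((hmemP _).2 ht))
          · have htC : t ∈ C := by
              simpa [mul_assoc] using mul_mem (mul_mem (inv_mem n.2) (hPC ht)) n.2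
            exact (hmemP ⟨t, htC⟩).1 ((mem_normalizer_iff.1 hn ⟨t, htC⟩).2 ((hmemP _).2 ht))
        have hfix := F.side.fix n hnG y hy hy1 (mem_centralizer_singleton_iff.1 n.2) w hw
        have h1 : (n : G) * w'⁻¹ * (n : G)⁻¹ ∈ W' :=
          F.side'.closed _ (inv_mem hw') n
            ((mem_normalizer_iff.1 hnG _).1 (F.side'.le (inv_mem hw')))
        rw [mem_subgroupOf]
        have e : ((⁅z, n⁆ : C) : G) = w' * ((n : G) * w'⁻¹ * (n : G)⁻¹) := by
          simp only [commutatorElement_def, Subgroup.coe_mul, InvMemClass.coe_inv, he, mul_inv_rev]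
          have hc := comm_of_sq F.sq _ (F.side.le hw) _ (F.side'.le hw')
          have hc2 := comm_of_sq F.sq _ (F.side.le hw) _
            ((F.side'.le h1 : (n : G) * w'⁻¹ * (n : G)⁻¹ ∈ (P : Subgroup G)))
          calc w * w' * (n : G) * (w'⁻¹ * w⁻¹) * (n : G)⁻¹
              = w * w' * ((n : G) * w'⁻¹ * (n : G)⁻¹) * ((n : G) * w⁻¹ * (n : G)⁻¹) := by group
            _ = w * w' * ((n : G) * w'⁻¹ * (n : G)⁻¹) * w⁻¹ := by
                congr 1
                rw [mul_inv_eq_iff_eq_mul]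
                exact (Commute.inv_right (show Commute (n : G) w from hfix)).eq
            _ = w' * (w * ((n : G) * w'⁻¹ * (n : G)⁻¹)) * w⁻¹ := by rw [hc]; group
            _ = w' * ((n : G) * w'⁻¹ * (n : G)⁻¹) := by rw [hc2]; group
        rw [e]
        exact mul_mem hw' h1
    · intro z hz
      rcases eq_or_ne z 1 with rfl | hz1
      · exact one_mem _
      have hzW : (z : G) ∈ W' := hz
      have hz1' : (z : G) ≠ 1 := fun h => hz1 (Subtype.ext h)
      obtain ⟨a, -, ha⟩ : ∃ a ∈ (Set.univ : Set W'), (a : G) ∉ ({1, (z : G)} : Set G) := by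
        by_contra hc
        push Not at hc
        have h1 : (Set.univ : Set W') ⊆ {1, ⟨(z : G), hzW⟩} := fun a ha => by
          rcases hc a ha with h | h
          · exact Or.inl (Subtype.ext h)
          · exact Or.inr (Subtype.ext h)
        have := (Set.ncard_le_ncard h1).trans (Set.ncard_insert_le _ _)
        rw [Set.ncard_univ, F.side'.card, Set.ncard_singleton] at this
        omega
      simp only [Set.mem_insert_iff, Set.mem_singleton_iff, not_or] at ha
      have hza : (z : G) * a ≠ 1 := fun h => ha.2 (by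
        calc (a : G) = (z : G) * ((z : G) * a) := by
              rw [← mul_assoc, F.sq _ (F.side'.le hzW), one_mul]
          _ = (z : G) := by rw [h, mul_one])
      obtain ⟨n, -, hny, hn⟩ := F.side.rot y hy hy1 a a.2 ha.1 _ (mul_mem hzW a.2) hza
      rw [commutator_inf_eq_focalSubgroup Pc |>.symm, mem_inf]
      refine ⟨?_, hWP hz⟩
      have hnC : n ∈ C := mem_centralizer_singleton_iff.2 hny
      have e : z = ⁅(⟨n, hnC⟩ : C), ⟨a, hW'C a.2⟩⁆ := Subtype.ext (by
        show (z : G) = n * a * n⁻¹ * (a : G)⁻¹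
        rw [hn, mul_inv_cancel_right])
      rw [e, _root_.commutator_def]
      exact commutator_mem_commutator (mem_top _) (mem_top _)
  -- the kernel of the transfer
  set K := (Pc : Subgroup C).transferFocal.ker with hK
  have hinf : K ⊓ (Pc : Subgroup C) = Wc := by
    rw [← hfocal, hK]; exact ker_transferFocal_inf_eq_focalSubgroup Pc
  have hsup : (Pc : Subgroup C) ⊔ K = ⊤ := top_le_iff.1
    ((CfsgLib.Transfer.sylow_sup_pResidual Pc).ge.trans
      (sup_le_sup_left (CfsgLib.Transfer.pResidual_le_ker_transferFocal Pc) _))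
  have hW4 : Nat.card Wc = 4 := by
    rw [Nat.card_congr (subgroupOfEquivOfLe hW'C).toEquiv, F.side'.card]
  have hP16 : Nat.card (Pc : Subgroup C) = 16 := by
    rw [show (Pc : Subgroup C) = (P : Subgroup G).subgroupOf C from rfl,
      Nat.card_congr (subgroupOfEquivOfLe hPC).toEquiv]
    exact F.card
  have hidx : K.index = 2 ^ 2 := by
    rw [← relIndex_top_right, ← hsup, relIndex_sup_right, ← inf_relIndex_right, hinf]
    have := relIndex_mul_relIndex ⊥ Wc (Pc : Subgroup C) bot_le hWP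
    rw [relIndex_bot_left, relIndex_bot_left, hW4, hP16] at this
    omega
  have hfac : (Nat.card K).factorization 2 = 2 := by
    have h1 := Pc.card_eq_multiplicity
    rw [show Nat.card ↥(Pc : Subgroup C) = 2 ^ 4 from hP16] at h1
    have h2 := (Nat.pow_right_injective le_rfl h1).symm
    rw [← K.card_mul_index, hidx, Nat.factorization_mul Nat.card_pos.ne' (by norm_num),
      Finsupp.add_apply, Nat.prime_two.factorization_pow, Finsupp.single_eq_same] at h2
    omega
  have hWK : Wc ≤ K := hinf ▸ inf_le_left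
  let Q : Sylow 2 K := Sylow.ofCard (Wc.subgroupOf K) (by
    rw [hfac, Nat.card_congr (subgroupOfEquivOfLe hWK).toEquiv, hW4]; norm_num)
  have hQ4 : Nat.card Q = 4 := by
    show Nat.card ↥(Wc.subgroupOf K) = 4
    rw [Nat.card_congr (subgroupOfEquivOfLe hWK).toEquiv, hW4]
  have hQsq : ∀ q : Q, q * q = 1 := fun q => Subtype.ext (Subtype.ext (Subtype.ext
    (F.sq _ (F.side'.le (show ((q : K) : C).1 ∈ W' from q.2)))))
  have hinvW : ∀ s : K, orderOf s = 2 → ∃ t : K, IsConj s t ∧ ((t : C) : G) ∈ W' ∧ ((t : C) : G) ≠ 1 := by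
    intro s hs
    obtain ⟨S, hS⟩ := (IsPGroup.of_card (n := 1)
      (by rw [Nat.card_zpowers, hs, pow_one]) : IsPGroup 2 (zpowers s)).exists_le_sylow
    obtain ⟨k, hk⟩ := MulAction.exists_smul_eq K S Q
    have h1 : k * s * k⁻¹ ∈ (Q : Subgroup K) := by
      rw [← hk, Sylow.coe_subgroup_smul]
      exact smul_mem_pointwise_smul _ (MulAut.conj k) _ (hS (mem_zpowers s))
    refine ⟨_, isConj_iff.2 ⟨k, rfl⟩, h1, fun h => ?_⟩
    have h2 : k * s * k⁻¹ = 1 := Subtype.ext (Subtype.ext h)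
    rw [conj_eq_one_iff] at h2
    rw [h2, orderOf_one] at hs
    omega
  have hone : ∀ s t : K, orderOf s = 2 → orderOf t = 2 → IsConj s t := by
    intro s t hs ht
    obtain ⟨s', hs', hsW, hs1⟩ := hinvW s hs
    obtain ⟨t', ht', htW, ht1⟩ := hinvW t ht
    obtain ⟨n, -, hny, hn⟩ := F.side.rot y hy hy1 _ hsW hs1 _ htW ht1
    let nC : C := ⟨n, mem_centralizer_singleton_iff.2 hny⟩
    obtain ⟨k, hk, q, hq, hnkq⟩ := mem_sup_of_normal_left.1
      ((sup_comm (a := (Pc : Subgroup C)) (b := K)).symm.trans hsup ▸ mem_top nC :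
        nC ∈ K ⊔ (Pc : Subgroup C))
    have hqs : (q : G) * ((s' : C) : G) * (q : G)⁻¹ = ((s' : C) : G) := by
      rw [comm_of_sq F.sq _ ((hmemP q).1 hq) _ (F.side'.le hsW), mul_inv_cancel_right]
    refine hs'.trans (IsConj.trans (isConj_iff.2 ⟨⟨k, hk⟩, Subtype.ext (Subtype.ext ?_)⟩) ht'.symm)
    show (k : G) * ((s' : C) : G) * (k : G)⁻¹ = ((t' : C) : G)
    rw [← hn, show n = (k : G) * (q : G) from congrArg Subtype.val hnkq.symm]
    nth_rewrite 1 [← hqs]
    group
  have hrK : blockRank 2 (principalBlock M K) = 3 := klein_blockRank hM Q hQ4 hQsq hone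
  obtain ⟨D, hD⟩ := CfsgLib.Blocks.exists_isDefectGroup hM (isPBlock_principalBlock (G := C) M)
  have hDp : IsPGroup 2 D := by
    refine IsPGroup.of_card (n := blockDefect 2 (principalBlock M C)) ?_
    exact CfsgLib.BlockCover.natCard_defect hM (isPBlock_principalBlock M) hD
  have hDab : ∀ a ∈ D, ∀ b ∈ D, a * b = b * a := comm_of_sq (G := C) fun a ha => Subtype.ext (by
    refine F.two_element_sq ?_
    obtain ⟨i, hi⟩ := IsPGroup.iff_orderOf.1 hDp ⟨a, ha⟩
    exact ⟨i, by rw [Subgroup.orderOf_coe, ← hi, orderOf_mk a ha]⟩)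
  have hst := CfsgLib.StableBlock.stable_block K hM ⟨2, hidx⟩ (isPBlock_principalBlock M)
    (fun g => CfsgLib.BrauerPairs.stabilizesBlock_principal hM
      (by rw [normalizer_eq_top]; exact mem_top g))
    (isPBlock_principalBlock M)
    ⟨principalIrr C, by rw [principalBlock_eq]; exact mem_blockOf_self hM _,
      principalIrr K, by rw [principalBlock_eq]; exact mem_blockOf_self hM _, by
        rw [show (fun n : K => (principalIrr C : C → ℂ) n) = (principalIrr K : K → ℂ) from rfl,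
          classInner_irr_self (principalIrr K).2]
        exact one_ne_zero⟩ hD hDab
  rw [hst.2.2.2.2.2, hrK]

end CfsgLib.Elem16
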