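import Mathlib

/-!
# Two integral projections with product of rank one

`A * A = 4 A`, `B * B = 4 B`, `A * B = v v'`, both fix `v` up to the factor `4`; then no entry of
`v` is `±2` if at most two are and the diagonal entries there are `2`.
-/

set_option autoImplicit false
set_option linter.unusedSectionVars false

namespace CfsgLib.Elem16

variable {ι : Type*} [Fintype ι] [DecidableEq ι]

/-- The data of one projection. -/
structure Proj (v : ι → ℤ) (A : ι → ι → ℤ) : Prop where
  symm : ∀ i j, A i j = A j i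
  idem : ∀ i j, ∑ k, A i k * A k j = 4 * A i j
  fix : ∀ i, ∑ k, A i k * v k = 4 * v i
  diag : ∀ u, v u ^ 2 = 4 → A u u = 2

variable {v : ι → ℤ} {A : ι → ι → ℤ}

theorem Proj.row_sq (h : Proj v A) (i : ι) : ∑ k, A i k ^ 2 = 4 * A i i := by
  rw [← h.idem i i]
  exact Finset.sum_congr rfl fun k _ => by rw [sq, h.symm k i]

theorem int_sq_cases {a : ℤ} (h : a ^ 2 = 1 ∨ a ^ 2 = 4) :
    a = 1 ∨ a = -1 ∨ a = 2 ∨ a = -2 := by
  have : -2 ≤ a ∧ a ≤ 2 := by rcases h with h | h <;> constructor <;> nlinarith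
  rcases h with h | h <;> (obtain ⟨h1, h2⟩ := this; interval_cases a <;> simp_all)

/-- The sum of the entries in the columns with `v = ±2` is even. -/
theorem Proj.parity (h : Proj v A) (hv : ∀ i, v i ^ 2 = 1 ∨ v i ^ 2 = 4) (i : ι) :
    (2 : ℤ) ∣ ∑ k ∈ Finset.univ.filter (fun k => v k ^ 2 = 4), A i k := by
  have key : ∀ k, (2 : ℤ) ∣ (if v k ^ 2 = 4 then A i k else 0) - (A i k ^ 2 - A i k * v k) := by
    intro k
    have h2 : (2 : ℤ) ∣ A i k ^ 2 - A i k := by
      rw [sq, ← mul_sub_one]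
      exact (Int.even_mul_pred_self _).two_dvd
    obtain ⟨c, hc⟩ := h2
    rcases int_sq_cases (hv k) with e | e | e | e <;> rw [e]
    · rw [if_neg (by norm_num)]; exact ⟨-c, by linarith⟩
    · rw [if_neg (by norm_num)]; exact ⟨-c - A i k, by linarith⟩
    · rw [if_pos (by norm_num)]; exact ⟨A i k - c, by linarith⟩
    · rw [if_pos (by norm_num)]; exact ⟨-c - A i k, by linarith⟩
  have h1 := Finset.dvd_sum (s := Finset.univ) fun k _ => key k
  rw [Finset.sum_sub_distrib, ← Finset.sum_filter, Finset.sum_sub_distrib, h.row_sq, h.fix] at h1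
  obtain ⟨c, hc⟩ := h1
  exact ⟨c + 2 * A i i - 2 * v i, by linarith⟩

/-- A single `±2`. -/
theorem Proj.not_one (h : Proj v A) (hv : ∀ i, v i ^ 2 = 1 ∨ v i ^ 2 = 4) {u : ι}
    (hu : v u ^ 2 = 4) (hone : ∀ k, v k ^ 2 = 4 → k = u) : False := by
  have hF : Finset.univ.filter (fun k => v k ^ 2 = 4) = {u} := by
    ext k
    simp only [Finset.mem_filter, Finset.mem_univ, true_and, Finset.mem_singleton]
    exact ⟨hone k, fun e => e ▸ hu⟩
  have heven : ∀ i, (2 : ℤ) ∣ A u i := fun i => by
    have := h.parity hv i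
    rwa [hF, Finset.sum_singleton, h.symm] at this
  have hd := h.diag u hu
  have hs : ∑ k ∈ Finset.univ.erase u, A u k ^ 2 = 4 := by
    have h1 := h.row_sq u
    rw [← Finset.add_sum_erase _ _ (Finset.mem_univ u), hd] at h1
    linarith
  have hw : ∑ k ∈ Finset.univ.erase u, A u k * v k = 2 * v u := by
    have h1 := h.fix u
    rw [← Finset.add_sum_erase _ _ (Finset.mem_univ u), hd] at h1
    linarith
  obtain ⟨k, hk, hne⟩ : ∃ k ∈ Finset.univ.erase u, A u k ≠ 0 := by
    by_contra hc
    push Not at hc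
    rw [Finset.sum_eq_zero fun k hk => by rw [hc k hk]; ring] at hs
    norm_num at hs
  have hk4 : 4 ≤ A u k ^ 2 := by
    obtain ⟨c, hc⟩ := heven k
    have : c ≠ 0 := fun h0 => hne (by rw [hc, h0, mul_zero])
    have : 0 < c * c := mul_self_pos.2 this
    rw [hc]; nlinarith
  have hothers : ∀ j ∈ (Finset.univ.erase u).erase k, A u j = 0 := by
    intro j hj
    rw [← Finset.add_sum_erase _ _ hk] at hs
    have h0 : ∑ j ∈ (Finset.univ.erase u).erase k, A u j ^ 2 = 0 :=
      le_antisymm (by linarith) (Finset.sum_nonneg fun j _ => sq_nonneg _)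
    exact pow_eq_zero_iff two_ne_zero |>.1
      ((Finset.sum_eq_zero_iff_of_nonneg fun j _ => sq_nonneg _).1 h0 j hj)
  rw [← Finset.add_sum_erase _ _ hk, Finset.sum_eq_zero fun j hj => by rw [hothers j hj]; ring] at hs hw
  have hvk : v k ^ 2 = 1 := (hv k).resolve_right fun e => (Finset.mem_erase.1 hk).1 (hone k e)
  have h2 : (A u k * v k) ^ 2 = (2 * v u) ^ 2 := by rw [← hw, add_zero]
  rw [mul_pow, mul_pow, hvk, hu] at h2
  linarith

/-- With two entries `±2` the entry between them is not zero. -/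
theorem Proj.between (h : Proj v A) (hv : ∀ i, v i ^ 2 = 1 ∨ v i ^ 2 = 4) {u w : ι} (huw : u ≠ w)
    (hu : v u ^ 2 = 4) (hw : v w ^ 2 = 4) (htwo : ∀ k, v k ^ 2 = 4 → k = u ∨ k = w) :
    A u w * v w = 2 * v u ∧ ∀ k, k ≠ u → k ≠ w → A u k = 0 := by
  have hF : Finset.univ.filter (fun k => v k ^ 2 = 4) = {u, w} := by
    ext k
    simp only [Finset.mem_filter, Finset.mem_univ, true_and, Finset.mem_insert, Finset.mem_singleton]
    refine ⟨htwo k, ?_⟩
    rintro (rfl | rfl) <;> assumption
  have hpar : ∀ i, (2 : ℤ) ∣ A u i + A w i := fun i => by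
    have := h.parity hv i
    rwa [hF, Finset.sum_pair huw, h.symm i u, h.symm i w] at this
  -- the rest of the row of `r`
  set R : Finset ι := (Finset.univ.erase u).erase w with hR
  have hsplit : ∀ f : ι → ℤ, ∑ k, f k = f u + (f w + ∑ k ∈ R, f k) := fun f => by
    rw [← Finset.add_sum_erase _ _ (Finset.mem_univ u), hR,
      ← Finset.add_sum_erase _ f (Finset.mem_erase.2 ⟨huw.symm, Finset.mem_univ w⟩)]
  have hone : ∀ k ∈ R, v k = 1 ∨ v k = -1 := by
    intro k hk
    simp only [hR, Finset.mem_erase] at hk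
    have h1 : v k ^ 2 = 1 := (hv k).resolve_right fun e => (htwo k e).elim hk.2.1 hk.1
    exact sq_eq_one_iff.1 h1
  have hdu := h.diag u hu
  have hdw := h.diag w hw
  have hx : A u w = 0 ∨ A u w = 2 ∨ A u w = -2 := by
    have h1 := h.row_sq u
    rw [hsplit, hdu] at h1
    have h2 : 0 ≤ ∑ k ∈ R, A u k ^ 2 := Finset.sum_nonneg fun _ _ => sq_nonneg _
    have h3 : (2 : ℤ) ∣ A u w := by
      obtain ⟨c, hc⟩ := hpar u
      rw [hdu, h.symm w u] at hc
      exact ⟨c - 1, by linarith⟩
    have h4 : -2 ≤ A u w ∧ A u w ≤ 2 := by constructor <;> nlinarith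
    obtain ⟨h4, h5⟩ := h4
    obtain ⟨c, hc⟩ := h3
    omega
  rcases hx with hx | hx
  · -- the rows are proportional to `v` on a common support of size four
    exfalso
    have hrow : ∀ r r' : ι, v r ^ 2 = 4 → A r r = 2 → A r r' = 0 →
        (∀ f : ι → ℤ, ∑ k, f k = f r + (f r' + ∑ k ∈ R, f k)) →
        ∃ s : ℤ, v r = 2 * s ∧ s ^ 2 = 1 ∧ ∑ k ∈ R, A r k ^ 2 = 4 ∧
          ∀ k ∈ R, A r k = 0 ∨ A r k = s * v k := by
      intro r r' hr hrr hrr' hsp
      obtain ⟨s, hs, hs1⟩ : ∃ s : ℤ, v r = 2 * s ∧ s ^ 2 = 1 := by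
        rcases int_sq_cases (Or.inr hr) with e | e | e | e
        · rw [e] at hr; norm_num at hr
        · rw [e] at hr; norm_num at hr
        · exact ⟨1, by rw [e]; norm_num, by norm_num⟩
        · exact ⟨-1, by rw [e]; norm_num, by norm_num⟩
      have h1 := h.row_sq r
      have h2 := h.fix r
      rw [hsp, hrr, hrr'] at h1 h2
      have h1' : ∑ k ∈ R, A r k ^ 2 = 4 := by linarith
      have h2' : ∑ k ∈ R, A r k * v k = 4 * s := by rw [hs] at h2; linarith
      refine ⟨s, hs, hs1, h1', fun k hk => ?_⟩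
      have hterm : ∀ j ∈ R, 0 ≤ A r j ^ 2 - s * (A r j * v j) := by
        intro j hj
        have hv1 : (s * v j) ^ 2 = 1 := by
          rw [mul_pow, hs1]; rcases hone j hj with e | e <;> rw [e] <;> norm_num
        have e : A r j ^ 2 - s * (A r j * v j) = A r j * (A r j - s * v j) := by ring
        rw [e]
        rcases sq_eq_one_iff.1 hv1 with e' | e' <;> rw [e']
        · exact (Int.even_mul_pred_self _).elim fun _ _ => by
            rcases le_or_gt (A r j) 0 with hle | hgt
            · exact mul_nonneg_of_nonpos_of_nonpos hle (by linarith)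
            · exact mul_nonneg (by linarith) (by linarith)
        · rcases le_or_gt 0 (A r j) with hle | hgt
          · exact mul_nonneg hle (by linarith)
          · exact mul_nonneg_of_nonpos_of_nonpos (by linarith) (by linarith)
      have h0 : ∑ j ∈ R, (A r j ^ 2 - s * (A r j * v j)) = 0 := by
        rw [Finset.sum_sub_distrib, ← Finset.mul_sum, h1', h2']; linarith
      have h5 := (Finset.sum_eq_zero_iff_of_nonneg hterm).1 h0 k hk
      have e : A r k * (A r k - s * v k) = 0 := by linarith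
      rcases mul_eq_zero.1 e with h6 | h6
      · exact Or.inl h6
      · exact Or.inr (by linarith)
    obtain ⟨s, -, hs1, hsum, hsu⟩ := hrow u w hu hdu hx hsplit
    obtain ⟨t, -, ht1, -, hsw⟩ := hrow w u hw hdw ((h.symm w u).trans hx)
      (fun f => by rw [hsplit f]; ring)
    have hprod : ∀ k ∈ R, A u k * A w k = s * t * A u k ^ 2 := by
      intro k hk
      have hvk : v k ^ 2 = 1 := by rcases hone k hk with e | e <;> rw [e] <;> norm_num
      obtain ⟨c, hc⟩ := hpar k
      have hodd : ∀ r : ℤ, r ^ 2 = 1 → ¬ (2 : ℤ) ∣ r * v k := by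
        intro r hr
        rcases sq_eq_one_iff.1 hr with e | e <;> rcases hone k hk with e' | e' <;>
          rw [e, e'] <;> norm_num
      rcases hsu k hk with h1 | h1 <;> rcases hsw k hk with h2 | h2
      · rw [h1, h2]; ring
      · exact absurd ⟨c, by rw [← hc, h1, h2, zero_add]⟩ (hodd t ht1)
      · exact absurd ⟨c, by rw [← hc, h1, h2, add_zero]⟩ (hodd s hs1)
      · rw [h1, h2]
        calc s * v k * (t * v k) = s * t * (1 * v k ^ 2) := by ring
          _ = s * t * (s * v k) ^ 2 := by rw [mul_pow, hs1]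
    have h3 := h.idem u w
    rw [hsplit, hx, mul_zero, Finset.sum_congr rfl fun k hk => by rw [h.symm k w, hprod k hk],
      ← Finset.mul_sum, hsum] at h3
    have : (s * t) ^ 2 = 1 := by rw [mul_pow, hs1, ht1]; norm_num
    have h4 : s * t * 4 = 0 := by linarith
    rw [show s * t = 0 by linarith] at this
    norm_num at this
  · have hsq : A u w ^ 2 = 4 := by rcases hx with e | e <;> rw [e] <;> norm_num
    have h1 := h.row_sq u
    rw [hsplit, hdu, hsq] at h1
    have h2 : ∀ k ∈ R, A u k = 0 := fun k hk => pow_eq_zero_iff two_ne_zero |>.1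
      ((Finset.sum_eq_zero_iff_of_nonneg fun j _ => sq_nonneg _).1 (by linarith) k hk)
    have h3 := h.fix u
    rw [hsplit, hdu, Finset.sum_eq_zero fun k hk => by rw [h2 k hk, zero_mul]] at h3
    exact ⟨by linarith, fun k hku hkw => h2 k (by simp [hR, hku, hkw])⟩

/-- All entries of `v` are `±1`. -/
theorem all_one {B : ι → ι → ℤ} (hA : Proj v A) (hB : Proj v B)
    (hAB : ∀ i j, ∑ k, A i k * B k j = v i * v j) (hv : ∀ i, v i ^ 2 = 1 ∨ v i ^ 2 = 4)
    (hfew : (Finset.univ.filter (fun k => v k ^ 2 = 4)).card ≤ 2) : ∀ i, v i ^ 2 = 1 := by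
  intro u
  rcases hv u with h | hu
  · exact h
  exfalso
  by_cases hone : ∀ k, v k ^ 2 = 4 → k = u
  · exact hA.not_one hv hu hone
  push Not at hone
  obtain ⟨w, hw, hwu⟩ := hone
  have htwo : ∀ k, v k ^ 2 = 4 → k = u ∨ k = w := by
    intro k hk
    by_contra hc
    push Not at hc
    have h3 : ({u, w, k} : Finset ι) ⊆ Finset.univ.filter (fun k => v k ^ 2 = 4) := by
      intro j hj
      simp only [Finset.mem_insert, Finset.mem_singleton] at hj
      rcases hj with rfl | rfl | rfl <;> simp [hu, hw, hk]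
    have := (Finset.card_le_card h3).trans hfew
    rw [Finset.card_eq_three.2 ⟨u, w, k, hwu.symm, hc.1.symm, hc.2.symm, rfl⟩] at this
    omega
  obtain ⟨hxA, hzero⟩ := hA.between hv hwu.symm hu hw htwo
  obtain ⟨hxB, -⟩ := hB.between hv hwu.symm hu hw htwo
  have hx : A u w = B u w := by
    have hvw : v w ≠ 0 := fun e => by rw [e] at hw; norm_num at hw
    exact mul_right_cancel₀ hvw (hxA.trans hxB.symm)
  have hsq : A u w ^ 2 * 4 = 16 := by
    rw [← hw, ← mul_pow, hxA, mul_pow, hu]; norm_num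
  have h1 := hAB u u
  rw [← Finset.add_sum_erase _ _ (Finset.mem_univ u),
    Finset.sum_eq_single_of_mem w (Finset.mem_erase.2 ⟨hwu, Finset.mem_univ w⟩)
      (fun k hk hkw => by rw [hzero k (Finset.mem_erase.1 hk).1 hkw, zero_mul]),
    hA.diag u hu, hB.diag u hu, hB.symm w u, ← hx, ← sq, ← sq, ← sq, hu] at h1
  linarith

end CfsgLib.Elem16
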