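import Cfsg.Agent.Lib.Elem16.GenChar
import Cfsg.Agent.Lib.Elem16.Matrix
import Cfsg.Agent.Lib.Elem16.Local
import Cfsg.Agent.Lib.Blk7.MajorNonvanish
import Cfsg.Agent.Lib.OneSection.Main
import Cfsg.Agent.S4646

/-!
# The principal 2-block for inertial index nine on an elementary abelian group of order 16
-/

set_option autoImplicit false
set_option linter.unusedSectionVars false
set_option linter.style.haveILetI false
set_option linter.unusedVariables false
set_option maxHeartbeats 1000000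

noncomputable section

namespace CfsgLib.Elem16

open Cfsg CfsgLib.Characters CfsgLib.Blocks CfsgLib.Blk7
open scoped ComplexConjugate Classical

universe u

variable {G : Type u} [Group G] [Fintype G] {P : Sylow 2 G} {W W' : Subgroup G} {M : Ideal AlgInt}

theorem Frame.factorization (F : Frame P W W') : (Nat.card G).factorization 2 = 4 := by
  have h1 := P.card_eq_multiplicity
  rw [F.card, show (16 : ℕ) = 2 ^ 4 by norm_num] at h1
  exact (Nat.pow_right_injective le_rfl h1).symm

theorem Frame.order_two (F : Frame P W W') {t : G} (ht : t ∈ (P : Subgroup G)) (h1 : t ≠ 1) :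
    orderOf t = 2 :=
  orderOf_eq_prime (by rw [pow_two]; exact F.sq t ht) h1

theorem Frame.factorization_centralizer (F : Frame P W W') {t : G} (ht : t ∈ (P : Subgroup G)) :
    (Nat.card ↥(Subgroup.centralizer ({t} : Set G))).factorization 2 = 4 := by
  have h0 : Nat.card ↥((P : Subgroup G).subgroupOf (Subgroup.centralizer ({t} : Set G))) = 2 ^ 4 := by
    rw [Nat.card_congr (Subgroup.subgroupOfEquivOfLe (F.le_centralizer ht)).toEquiv]
    exact F.card
  have h1 := Sylow.card_eq_multiplicity (P.subtype (F.le_centralizer ht))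
  have h2 : (2 : ℕ) ^ 4 =
      2 ^ (Nat.card ↥(Subgroup.centralizer ({t} : Set G))).factorization 2 := h0.symm.trans h1
  exact (Nat.pow_right_injective le_rfl h2).symm

theorem p_order (F : Frame P W W') {t : G} (ht : t ∈ (P : Subgroup G)) :
    ∃ k : ℕ, orderOf t = 2 ^ k := by
  rcases eq_or_ne t 1 with rfl | h
  · exact ⟨0, by simp⟩
  · exact ⟨1, by rw [F.order_two ht h, pow_one]⟩

theorem inducing_principal (hM : IsPModular 2 M) {t : G} (ht : ∃ k : ℕ, orderOf t = 2 ^ k) :
    inducing M t (principalBlock M G) = principalBlock M ↥(Subgroup.centralizer ({t} : Set G)) := by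
  haveI : Fact (Nat.Prime 2) := ⟨Nat.prime_two⟩
  ext ξ
  show IsInducedBlock M _ (blockOf M (ξ : ↥(Subgroup.centralizer ({t} : Set G)) → ℂ)) _ ↔ _
  rw [isInducedBlock_principal_iff hM _ (inducedBlockDefined_centralizer hM ht (isPBlock_blockOf ξ))]
  exact ⟨fun h => h ▸ mem_blockOf_self hM ξ,
    fun h => (IsPBlock.eq_blockOf hM (isPBlock_principalBlock M) h).symm⟩

/-- No member of the principal block vanishes at an element of the Sylow subgroup. -/
theorem Frame.apply_ne_zero (F : Frame P W W') (hM : IsPModular 2 M) {t : G}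
    (ht : t ∈ (P : Subgroup G)) {χ : IrrCharacter G} (hχ : χ ∈ principalBlock M G) :
    (χ : G → ℂ) t ≠ 0 := by
  haveI : Fact (Nat.Prime 2) := ⟨Nat.prime_two⟩
  set C := Subgroup.centralizer ({t} : Set G) with hC
  have hto := p_order F ht
  have h1 : ¬ 2 ∣ orderOf (1 : C) := by simp
  have hind : IsInducedBlock M C (principalBlock M C) (principalBlock M G) :=
    (isInducedBlock_principal_iff hM C
      (inducedBlockDefined_centralizer hM hto (isPBlock_principalBlock M))).2 rfl
  have h := MajorNonvanish.blockPart_one_ne_zero hM hto hC hind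
    (by rw [OneSection.blockDefect_principal hM, OneSection.blockDefect_principal hM,
      F.factorization, F.factorization_centralizer ht]) hχ
  rw [show (fun c : C => (χ : G → ℂ) (t * c)) = sectionFun t (χ : G → ℂ) from rfl,
    blockPart_principal_section hM hto h1, if_pos hχ] at h
  simpa using h

/-- The rank of the block is not one. -/
theorem Frame.rank_ne_one (F : Frame P W W') (hM : IsPModular 2 M) :
    blockRank 2 (principalBlock M G) ≠ 1 := by
  haveI : Fact (Nat.Prime 2) := ⟨Nat.prime_two⟩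
  intro h
  have hnil := (Cfsg.Agent.S4646.result (G := G) 2 M hM).2 h
  have hfrob : CfsgLib.Transfer.FrobeniusCond 2 G := fun Q hQ g hg hcop =>
    hnil.2 Q _ (CfsgLib.BrauerPairs.isBrauerPairOf_principalPair hM hQ) g hg
      (CfsgLib.BrauerPairs.stabilizesBlock_principal hM
        (CfsgLib.BrauerPairs.normalizer_le_normalizer_cz Q hg))
      (Nat.prime_two.coprime_iff_not_dvd.1 hcop.symm)
  have hbot := (CfsgLib.Transfer.hasNormalPComplement_iff_inf_eq_bot P).1
    (CfsgLib.Transfer.hasNormalPComplement_of_frobeniusCond hfrob)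
  haveI := CfsgLib.Transfer.pResidual_normal (G := G) (p := 2)
  have key : ∀ a ∈ (P : Subgroup G), ∀ b ∈ (P : Subgroup G), IsConj a b → a = b := by
    intro a ha b hb hab
    obtain ⟨g, hg⟩ := isConj_iff.1 hab
    obtain ⟨r, hr, q, hq, rfl⟩ := Subgroup.mem_sup_of_normal_left.1
      ((sup_comm (a := (P : Subgroup G)) (b := pResidual 2 G)).symm.trans
        (CfsgLib.Transfer.sylow_sup_pResidual P) ▸ Subgroup.mem_top g :
          g ∈ pResidual 2 G ⊔ (P : Subgroup G))
    have hqa : q * a * q⁻¹ = a := by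
      rw [comm_of_sq F.sq q hq a ha, mul_inv_cancel_right]
    have h1 : r * a * r⁻¹ = b := by rw [← hg]; nth_rewrite 1 [← hqa]; group
    have h2 : b * a⁻¹ ∈ (P : Subgroup G) ⊓ pResidual 2 G := by
      refine Subgroup.mem_inf.2 ⟨mul_mem hb (inv_mem ha), ?_⟩
      rw [← h1, show r * a * r⁻¹ * a⁻¹ = r * (a * r⁻¹ * a⁻¹) by group]
      exact mul_mem hr (Subgroup.Normal.conj_mem ‹_› _ (inv_mem hr) a)
    rw [hbot, Subgroup.mem_bot, mul_inv_eq_one] at h2
    exact h2.symm
  haveI : Nontrivial W := Finite.one_lt_card_iff_nontrivial.1 (by rw [F.side.card]; norm_num)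
  obtain ⟨a, ha⟩ := exists_ne (1 : W)
  obtain ⟨b, -, hb⟩ : ∃ b ∈ (Set.univ : Set W), b ∉ ({1, a} : Set W) :=
    Set.exists_mem_notMem_of_ncard_lt_ncard (lt_of_le_of_lt (Set.ncard_insert_le _ _)
      (by rw [Set.ncard_univ, F.side.card, Set.ncard_singleton]; norm_num))
  simp only [Set.mem_insert_iff, Set.mem_singleton_iff, not_or] at hb
  refine hb.2 (Subtype.ext (key _ (F.side.le a.2) _ (F.side.le b.2)
    (F.side.conj a a.2 (fun h => ha (Subtype.ext h)) b b.2 (fun h => hb.1 (Subtype.ext h)))).symm)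

theorem GSide.exists_ne_one {U U' : Subgroup G} (h : GSide P U U') : ∃ y ∈ U, y ≠ 1 := by
  by_contra hc
  push Not at hc
  have : U = ⊥ := (Subgroup.eq_bot_iff_forall _).2 hc
  have h4 := h.card
  rw [this, Subgroup.card_bot] at h4
  omega

/-- There is an element outside both sides. -/
theorem Frame.exists_free (F : Frame P W W') :
    ∃ x ∈ (P : Subgroup G), x ∉ W ∧ x ∉ W' := by
  obtain ⟨y, hy, hy1⟩ := F.side.exists_ne_one
  obtain ⟨z, hz, hz1⟩ := F.side'.exists_ne_one
  refine ⟨y * z, mul_mem (F.side.le hy) (F.side'.le hz), fun h => hz1 ?_, fun h => hy1 ?_⟩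
  · have : z ∈ W ⊓ W' := ⟨(Subgroup.mul_mem_cancel_left _ hy).1 h, hz⟩
    rwa [F.disjoint] at this
  · have : y ∈ W ⊓ W' := ⟨hy, (Subgroup.mul_mem_cancel_right _ hz).1 h⟩
    rwa [F.disjoint] at this

theorem Frame.conj_mem_iff (F : Frame P W W') {a b : G} (ha : a ∈ (P : Subgroup G))
    (hb : b ∈ (P : Subgroup G)) (h : IsConj a b) : (a ∈ W ↔ b ∈ W) ∧ (a ∈ W' ↔ b ∈ W') := by
  obtain ⟨g, hg⟩ := isConj_iff.1 h
  have e : g⁻¹ * b * (g⁻¹)⁻¹ = a := by rw [← hg]; group
  exact ⟨⟨fun h' => hg ▸ F.side.closed a h' g (hg ▸ hb),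
      fun h' => e ▸ F.side.closed b h' g⁻¹ (e.symm ▸ ha)⟩,
    ⟨fun h' => hg ▸ F.side'.closed a h' g (hg ▸ hb),
      fun h' => e ▸ F.side'.closed b h' g⁻¹ (e.symm ▸ ha)⟩⟩

theorem Frame.exists_rep (F : Frame P W W') {u : G} (hu : ∃ k : ℕ, orderOf u = 2 ^ k) :
    ∃ t ∈ (P : Subgroup G), IsConj u t := by
  haveI : Fact (Nat.Prime 2) := ⟨Nat.prime_two⟩
  obtain ⟨k, hk⟩ := hu
  obtain ⟨S, hS⟩ := (IsPGroup.of_card ((Nat.card_zpowers u).trans hk) :
    IsPGroup 2 (Subgroup.zpowers u)).exists_le_sylow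
  obtain ⟨a, ha⟩ := MulAction.exists_smul_eq G S P
  refine ⟨a * u * a⁻¹, ?_, isConj_iff.2 ⟨a, rfl⟩⟩
  rw [← ha, Sylow.coe_subgroup_smul]
  exact Subgroup.smul_mem_pointwise_smul _ (MulAut.conj a) _ (hS (Subgroup.mem_zpowers u))

/-- `k = l + 7`. -/
theorem Frame.card_eq (F : Frame P W W') (hM : IsPModular 2 M) :
    Nat.card (principalBlock M G) = blockRank 2 (principalBlock M G) + 7 := by
  haveI : Fact (Nat.Prime 2) := ⟨Nat.prime_two⟩
  obtain ⟨y, hy, hy1⟩ := F.side.exists_ne_one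
  obtain ⟨z, hz, hz1⟩ := F.side'.exists_ne_one
  obtain ⟨x, hx, hxW, hxW'⟩ := F.exists_free
  have hdis : ∀ t : G, t ∈ W → t ∈ W' → t = 1 := fun t h h' => by
    have : t ∈ W ⊓ W' := ⟨h, h'⟩
    rwa [F.disjoint] at this
  have hyP := F.side.le hy
  have hzP := F.side'.le hz
  have hyW' : y ∉ W' := fun h => hy1 (hdis y hy h)
  have hzW : z ∉ W := fun h => hz1 (hdis z h hz)
  have hx1 : x ≠ 1 := fun h => hxW (h ▸ one_mem W)
  have hyz : y ≠ z := fun h => hzW (h ▸ hy)
  have hyx : y ≠ x := fun h => hxW (h ▸ hy)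
  have hzx : z ≠ x := fun h => hxW' (h ▸ hz)
  set X : Finset G := {1, y, z, x}
  have hXP : ∀ t ∈ X, t ∈ (P : Subgroup G) := by
    intro t ht
    simp only [X, Finset.mem_insert, Finset.mem_singleton] at ht
    rcases ht with rfl | rfl | rfl | rfl
    exacts [one_mem _, hyP, hzP, hx]
  have h := card_block_eq hM (isPBlock_principalBlock (G := G) M) X (fun t ht => p_order F (hXP t ht))
    (fun g hg => by
      obtain ⟨t, ht, hgt⟩ := F.exists_rep hg
      have huniq : ∀ r ∈ X, ∀ s ∈ X, IsConj r s → r = s := by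
        intro r hr s hs hrs
        obtain ⟨h1, h2⟩ := F.conj_mem_iff (hXP r hr) (hXP s hs) hrs
        simp only [X, Finset.mem_insert, Finset.mem_singleton] at hr hs
        rcases hr with rfl | rfl | rfl | rfl <;> rcases hs with rfl | rfl | rfl | rfl <;>
          first
            | rfl
            | exact (isConj_one_right.1 hrs).symm
            | exact isConj_one_left.1 hrs
            | simp [hy, hz, hxW, hxW', hzW] at h1 h2
      have hex : ∃ r ∈ X, IsConj t r := by
        rcases eq_or_ne t 1 with rfl | ht1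
        · exact ⟨1, by simp [X], IsConj.refl _⟩
        by_cases h1 : t ∈ W
        · exact ⟨y, by simp [X], F.side.conj t h1 ht1 y hy hy1⟩
        by_cases h2 : t ∈ W'
        · exact ⟨z, by simp [X], F.side'.conj t h2 ht1 z hz hz1⟩
        exact ⟨x, by simp [X], F.conjFree t ht h1 h2 x hx hxW hxW'⟩
      obtain ⟨r, hr, htr⟩ := hex
      exact ⟨r, ⟨hr, hgt.trans htr⟩, fun s hs => huniq s hs.1 r hr
        (hs.2.symm.trans (hgt.trans htr))⟩)
  rw [show X = insert (1 : G) (insert y (insert z {x})) from rfl,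
    Finset.sum_insert (by simp [hy1.symm, hz1.symm, hx1.symm]),
    Finset.sum_insert (by simp [hyz, hyx]), Finset.sum_insert (by simp [hzx]), Finset.sum_singleton,
    finrank_regSpan_inducing_one hM (isPBlock_principalBlock M),
    inducing_principal hM (p_order F hyP), inducing_principal hM (p_order F hzP),
    inducing_principal hM (p_order F hx)] at h
  rw [← blockRank_eq, ← blockRank_eq, ← blockRank_eq, F.rank_side hM hy hy1,
    F.swap.rank_side hM hz hz1, rank_one_of_complement hM (F.complement_free hx hxW hxW')] at h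
  omega

/-- Twice the value on the free section: the two projections. -/
def proj (P : Sylow 2 G) (U : Subgroup G) : G → ℂ := (4 : ℂ) • (1 : G → ℂ) - sectInd P U

theorem proj_secConst [Fact (Nat.Prime 2)] (U : Subgroup G) : SecConst 2 (proj P U) := by
  refine SecConst.sub ⟨fun g h => rfl, fun g u _ => rfl⟩ (sectInd_secConst P U)

/-- The values of the projection by a representative in `P`. -/
theorem GSide.proj_apply {U U' : Subgroup G} (h : GSide P U U') [Fact (Nat.Prime 2)]
    (F : Frame P W W') {g u t : G} (hu : IsPPart 2 g u) (ht : t ∈ (P : Subgroup G)) (hut : IsConj u t) :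
    proj P U g = if t ∈ U then 0 else 4 := by
  obtain ⟨a, ha⟩ := isConj_iff.1 hut
  have hrel : U.relIndex (P : Subgroup G) = 4 := by
    have h1 := Subgroup.relIndex_mul_relIndex ⊥ U (P : Subgroup G) bot_le h.le
    rw [Subgroup.relIndex_bot_left, Subgroup.relIndex_bot_left, h.card, F.card] at h1
    omega
  have hiff : Into 2 U g ↔ t ∈ U := by
    rw [into_iff hu]
    refine ⟨fun ⟨b, hb⟩ => ?_, fun ht' => ⟨a, ha ▸ ht'⟩⟩
    have e : a * b⁻¹ * (b * u * b⁻¹) * (a * b⁻¹)⁻¹ = t := by rw [← ha]; group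
    exact e ▸ h.closed _ hb (a * b⁻¹) (e.symm ▸ ht)
  simp only [proj, sectInd, hrel, hiff, Pi.sub_apply, Pi.smul_apply, Pi.one_apply, smul_eq_mul,
    mul_one]
  split_ifs <;> norm_num

theorem Mw_pos {f : G → ℕ} {w : G → ℂ} (hw : ∀ g, w g = (f g : ℂ)) {χ : IrrCharacter G} {g₀ : G}
    (h₀ : 0 < f g₀) (hχ : (χ : G → ℂ) g₀ ≠ 0) : 0 < (Mw w χ χ).re := by
  have e : Mw w χ χ =
      (((Nat.card G : ℝ)⁻¹ * ∑ g, (f g : ℝ) * Complex.normSq ((χ : G → ℂ) g) : ℝ) : ℂ) := by
    rw [Mw_eq]
    push_cast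
    congr 1
    exact Finset.sum_congr rfl fun g _ => by rw [hw, mul_assoc, Complex.mul_conj]
  rw [e, Complex.ofReal_re]
  exact mul_pos (inv_pos.2 (Nat.cast_pos.2 Nat.card_pos)) (Finset.sum_pos'
    (fun g _ => mul_nonneg (Nat.cast_nonneg _) (Complex.normSq_nonneg _))
    ⟨g₀, Finset.mem_univ _, mul_pos (Nat.cast_pos.2 h₀) (Complex.normSq_pos.2 hχ)⟩)

/-- The invariants. -/
theorem Frame.invariants (F : Frame P W W') (hM : IsPModular 2 M) :
    Nat.card (principalBlock M G) = 16 ∧ blockRank 2 (principalBlock M G) = 9 := by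
  haveI : Fact (Nat.Prime 2) := ⟨Nat.prime_two⟩
  set B := principalBlock M G with hBdef
  have hB : IsPBlock M B := isPBlock_principalBlock M
  have htriv : principalIrr G ∈ B := by
    rw [hBdef, principalBlock_eq]; exact mem_blockOf_self hM _
  obtain ⟨x, hx, hxW, hxW'⟩ := F.exists_free
  obtain ⟨y, hy, hy1⟩ := F.side.exists_ne_one
  obtain ⟨z, hz, hz1⟩ := F.side'.exists_ne_one
  have hdis : ∀ t : G, t ∈ W → t ∈ W' → t = 1 := fun t h h' => by
    have : t ∈ W ⊓ W' := ⟨h, h'⟩
    rwa [F.disjoint] at this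
  have hyW' : y ∉ W' := fun h => hy1 (hdis y hy h)
  have hzW : z ∉ W := fun h => hz1 (hdis z h hz)
  have hx1 : x ≠ 1 := fun h => hxW (h ▸ one_mem W)
  have hxo : orderOf x = 2 := F.order_two hx hx1
  choose v hv using fun χ : IrrCharacter G => Blk7.exists_int_value hxo χ
  -- representatives
  have hex : ∀ g : G, ∃ u t : G, IsPPart 2 g u ∧ t ∈ (P : Subgroup G) ∧ IsConj u t := fun g => by
    obtain ⟨u, hu⟩ := exists_isPPart Nat.prime_two g
    obtain ⟨w, -, -, hord, -⟩ := id hu
    obtain ⟨t, ht, hut⟩ := F.exists_rep hord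
    exact ⟨u, t, hu, ht, hut⟩
  choose uu tt huu htt hut using hex
  have hPA : ∀ g, proj P W' g = if tt g ∈ W' then 0 else 4 := fun g =>
    F.side'.proj_apply F (huu g) (htt g) (hut g)
  have hPB : ∀ g, proj P W g = if tt g ∈ W then 0 else 4 := fun g =>
    F.side.proj_apply F (huu g) (htt g) (hut g)
  have hrep : ∀ {t : G}, t ∈ (P : Subgroup G) → (tt t ∈ W ↔ t ∈ W) ∧ (tt t ∈ W' ↔ t ∈ W') := by
    intro t ht
    have h1 : uu t = t := IsPPart.unique Nat.prime_two (huu t) (by
      have h := isPPart_mul (x := t) (y := (1 : G)) (Commute.one_right t) (p_order F ht)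
        (by simp : ¬ 2 ∣ orderOf (1 : G))
      rwa [mul_one] at h)
    have h2 := hut t
    rw [h1] at h2
    exact F.conj_mem_iff (htt t) ht h2.symm
  set FA := proj P W' with hFA
  set FB := proj P W with hFB
  have hAsec : SecConst 2 FA := proj_secConst W'
  have hBsec : SecConst 2 FB := proj_secConst W
  have hAgen : IsGeneralizedCharacter G FA := by
    refine isGeneralizedCharacter_sub ?_ (sectInd_generalized P F.side'.le (comm_of_sq F.sq)
      F.side'.closed)
    exact_mod_cast isGeneralizedCharacter_natCast_smul (isGeneralizedCharacter_one (G := G)) 4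
  have hBgen : IsGeneralizedCharacter G FB := by
    refine isGeneralizedCharacter_sub ?_ (sectInd_generalized P F.side.le (comm_of_sq F.sq)
      F.side.closed)
    exact_mod_cast isGeneralizedCharacter_natCast_smul (isGeneralizedCharacter_one (G := G)) 4
  -- integral matrices
  choose a ha using fun χ ψ : IrrCharacter G => classInner_generalized_int
    (isGeneralizedCharacter_mul hAgen (isGeneralizedCharacter_irr χ)) (isGeneralizedCharacter_irr ψ)
  choose b hb using fun χ ψ : IrrCharacter G => classInner_generalized_int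
    (isGeneralizedCharacter_mul hBgen (isGeneralizedCharacter_irr χ)) (isGeneralizedCharacter_irr ψ)
  replace ha : ∀ χ ψ, Mw FA χ ψ = (a χ ψ : ℂ) := ha
  replace hb : ∀ χ ψ, Mw FB χ ψ = (b χ ψ : ℂ) := hb
  have hidA : FA * FA = (4 : ℂ) • FA := funext fun g => by
    simp only [Pi.mul_apply, Pi.smul_apply, smul_eq_mul, hPA]
    split_ifs <;> norm_num
  have hidB : FB * FB = (4 : ℂ) • FB := funext fun g => by
    simp only [Pi.mul_apply, Pi.smul_apply, smul_eq_mul, hPB]
    split_ifs <;> norm_num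
  have hrealA : ∀ g, conj (FA g) = FA g := fun g => by rw [hPA]; split_ifs <;> simp [map_ofNat]
  have hrealB : ∀ g, conj (FB g) = FB g := fun g => by rw [hPB]; split_ifs <;> simp [map_ofNat]
  set Q := FA * FB with hQ
  have hQsec : SecConst 2 Q := hAsec.mul hBsec
  -- the free section
  set C := Subgroup.centralizer ({x} : Set G) with hC
  have hcompl := F.complement_free hx hxW hxW'
  haveI : (pPrimeCore 2 C).Normal := pPrimeCore_normal 2 C
  have hxord := p_order F hx
  have hcore : ∀ c : C, ¬ 2 ∣ orderOf c → c ∈ pPrimeCore 2 C := fun c hc =>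
    (CfsgLib.PCore.le_pPrimeCore_of_not_dvd CfsgLib.Transfer.pResidual_normal
      (CfsgLib.Transfer.hasNormalPComplement_iff.1 hcompl))
      (CfsgLib.Transfer.mem_pResidual (Nat.Coprime.symm (Nat.prime_two.coprime_iff_not_dvd.2 hc)))
  have hQval : ∀ g, Q g ≠ 0 → ∀ χ ∈ B, (χ : G → ℂ) g = (v χ : ℂ) := by
    intro g hg χ hχ
    rw [hQ, Pi.mul_apply, hPA, hPB] at hg
    have h1 : tt g ∉ W' := fun h => hg (by rw [if_pos h, zero_mul])
    have h2 : tt g ∉ W := fun h => hg (by rw [if_pos h, mul_zero])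
    obtain ⟨w, hw, hc, -, hwp⟩ := huu g
    obtain ⟨d, hd⟩ := isConj_iff.1 ((hut g).trans (F.conjFree _ (htt g) h2 h1 x hx hxW hxW'))
    have hdw : d * w * d⁻¹ ∈ C := by
      rw [hC, Subgroup.mem_centralizer_singleton_iff, ← hd]
      exact (hc.map (MulAut.conj d).toMonoidHom).symm
    have h3 := principal_apply_mul hM hxord (CfsgLib.PCore.not_dvd_card_pPrimeCore)
      (hcore ⟨_, hdw⟩ (by
        rw [← Subgroup.orderOf_coe]
        show ¬ 2 ∣ orderOf (MulAut.conj d w)
        rwa [MulEquiv.orderOf_eq])) hχ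
    rw [← hv, ← h3]
    exact classFunction_eq_of_isConj (irr_isClassFunction χ)
      (isConj_iff.2 ⟨d, by
        rw [← hw]
        show d * (uu g * w) * d⁻¹ = x * (d * w * d⁻¹)
        conv_rhs => rw [← hd]
        group⟩)
  have hsum16 : ∑ χ ∈ Finset.univ.filter (· ∈ B), v χ ^ 2 = 16 := by
    have h1 : ¬ 2 ∣ orderOf (1 : C) := by simp
    have h2 := principal_section_norm (y := (1 : C)) hM hxord h1
    rw [principal_norm_of_complement hM (core_index_of_complement hcompl) h1,
      F.factorization_centralizer hx] at h2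
    simp only [Subgroup.coe_one, mul_one, hv, Complex.norm_intCast, sq_abs] at h2
    norm_num at h2
    exact_mod_cast h2
  have hvtriv : v (principalIrr G) = 1 := by
    have h := hv (principalIrr G)
    change (1 : ℂ) = _ at h
    exact_mod_cast h.symm
  set c₀ : ℝ := (Nat.card G : ℝ)⁻¹ *
    ∑ g, (if tt g ∈ W' ∨ tt g ∈ W then 0 else 16) with hc₀
  have hQ0 : ∀ χ ∈ B, ∀ ψ ∈ B, Mw Q χ ψ = (c₀ : ℂ) * ((v χ : ℂ) * v ψ) := by
    intro χ hχ ψ hψ
    rw [Mw_eq, hc₀]
    push_cast
    rw [mul_assoc, Finset.sum_mul]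
    refine congrArg _ (Finset.sum_congr rfl fun g _ => ?_)
    have e : Q g = if tt g ∈ W' ∨ tt g ∈ W then (0 : ℂ) else 16 := by
      rw [hQ, Pi.mul_apply, hPA, hPB]
      split_ifs <;> first | tauto | norm_num
    rcases eq_or_ne (Q g) 0 with h0 | h0
    · rw [e] at h0 ⊢
      split_ifs at h0 ⊢ with h
      · simp
      · norm_num at h0
    · rw [hQval g h0 χ hχ, hQval g h0 ψ hψ, map_intCast, e]
      split_ifs <;> push_cast <;> ring
  have hc₀pos : 0 < c₀ := by
    refine mul_pos (inv_pos.2 (Nat.cast_pos.2 Nat.card_pos))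
      (Finset.sum_pos' (fun g _ => by split_ifs <;> norm_num) ⟨x, Finset.mem_univ _, ?_⟩)
    rw [if_neg (by rw [(hrep hx).1, (hrep hx).2]; tauto)]
    norm_num
  have hc₀1 : c₀ = 1 := by
    have h1 := Mw_mul hM hQsec Q hB htriv (principalIrr G)
    have e : Q * Q = (16 : ℂ) • Q := by
      rw [hQ, mul_mul_mul_comm, hidA, hidB, smul_mul_smul_comm]
      norm_num
    have h16 : ∑ φ ∈ Finset.univ.filter (· ∈ B), ((v φ : ℂ)) ^ 2 = 16 := by exact_mod_cast hsum16
    rw [e, Mw_smul, hQ0 _ htriv _ htriv,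
      Finset.sum_congr rfl fun φ hφ => show Mw Q (principalIrr G) φ * Mw Q φ (principalIrr G) =
        (c₀ : ℂ) ^ 2 * (v φ : ℂ) ^ 2 by
          rw [hQ0 _ htriv _ (Finset.mem_filter.1 hφ).2, hQ0 _ (Finset.mem_filter.1 hφ).2 _ htriv,
            hvtriv]
          push_cast
          ring,
      ← Finset.mul_sum, h16, hvtriv] at h1
    push_cast at h1
    have h2 : (16 : ℝ) * c₀ = c₀ ^ 2 * 16 := by
      have h3 : (16 : ℂ) * (c₀ : ℂ) = (c₀ : ℂ) ^ 2 * 16 := by linear_combination h1
      exact_mod_cast h3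
    nlinarith
  have hQv : ∀ χ ∈ B, ∀ ψ ∈ B, Mw Q χ ψ = (v χ : ℂ) * v ψ := fun χ hχ ψ hψ => by
    rw [hQ0 χ hχ ψ hψ, hc₀1, Complex.ofReal_one, one_mul]
  -- the bound on `v`
  have hvne : ∀ χ ∈ B, v χ ≠ 0 := fun χ hχ h0 =>
    F.apply_ne_zero hM hx hχ (by rw [hv, h0, Int.cast_zero])
  set BF := Finset.univ.filter (· ∈ B) with hBF
  have hk : Nat.card B = blockRank 2 B + 7 := F.card_eq hM
  have hkBF : Nat.card B = BF.card := by
    rw [Nat.card_eq_fintype_card, Fintype.card_subtype]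
  have hl : blockRank 2 B ≠ 1 := F.rank_ne_one hM
  have hl0 : blockRank 2 B ≠ 0 := by
    intro h0
    have h1 := Submodule.finrank_eq_zero.1 (show Module.finrank ℂ (regSpan 2 B) = 0 from h0)
    have h2 : pRegularPart 2 ((principalIrr G : IrrCharacter G) : G → ℂ) ∈ regSpan 2 B :=
      Submodule.subset_span ⟨_, htriv, rfl⟩
    rw [h1, Submodule.mem_bot] at h2
    exact CfsgLib.RankOrth.pRegularPart_one_ne_zero hM.1 _ h2
  have h9 : 9 ≤ BF.card := by rw [← hkBF, hk]; omega
  have hone' : ∀ χ ∈ BF, 1 ≤ v χ ^ 2 := fun χ hχ => by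
    have h1 := mul_self_pos.2 (hvne χ (Finset.mem_filter.1 hχ).2)
    rw [pow_two]; omega
  have hsmall : ∀ χ ∈ B, v χ ^ 2 = 1 ∨ v χ ^ 2 = 4 := by
    intro χ hχ
    have hχF : χ ∈ BF := Finset.mem_filter.2 ⟨Finset.mem_univ _, hχ⟩
    have h1 := Finset.add_sum_erase BF (fun φ => v φ ^ 2) hχF
    have h2 := Finset.card_nsmul_le_sum (BF.erase χ) (fun φ => v φ ^ 2) 1
      (fun φ hφ => hone' φ (Finset.mem_of_mem_erase hφ))
    rw [Finset.card_erase_of_mem hχF, nsmul_one] at h2
    have h3 : v χ ^ 2 ≤ 8 := by rw [hsum16] at h1; omega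
    have h4 : -2 ≤ v χ ∧ v χ ≤ 2 := by constructor <;> nlinarith
    have h5 := hvne χ hχ
    obtain ⟨h6, h7⟩ := h4
    rcases (show v χ = -2 ∨ v χ = -1 ∨ v χ = 1 ∨ v χ = 2 by omega) with e | e | e | e <;>
      rw [e] <;> norm_num
  have hfew : (BF.filter fun χ => v χ ^ 2 = 4).card ≤ 2 := by
    have h1 := Finset.sum_filter_add_sum_filter_not BF (fun χ => v χ ^ 2 = 4) (fun χ => v χ ^ 2)
    rw [Finset.sum_congr rfl fun χ hχ => (Finset.mem_filter.1 hχ).2, Finset.sum_const, hsum16] at h1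
    have h2 := Finset.card_nsmul_le_sum (BF.filter fun χ => ¬ v χ ^ 2 = 4) (fun φ => v φ ^ 2) 1
      (fun φ hφ => hone' φ (Finset.mem_filter.1 hφ).1)
    have h3 := Finset.card_filter_add_card_filter_not (s := BF) (fun χ => v χ ^ 2 = 4)
    simp only [nsmul_eq_mul, mul_one] at h1 h2
    omega
  -- the projections
  let ι := {χ : IrrCharacter G // χ ∈ B}
  have hsub : ∀ f : IrrCharacter G → ℂ, ∑ φ ∈ BF, f φ = ∑ φ : ι, f φ := fun f =>
    Finset.sum_subtype _ (fun φ => by simp [hBF]) f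
  have hproj : ∀ (w : G → ℂ) (m : IrrCharacter G → IrrCharacter G → ℤ),
      (∀ χ ψ, Mw w χ ψ = (m χ ψ : ℂ)) → (∀ g, conj (w g) = w g) → SecConst 2 w →
      w * w = (4 : ℂ) • w → w * Q = (4 : ℂ) • Q →
      (∀ u : ι, v u ^ 2 = 4 → m u u = 2) →
      Proj (fun χ : ι => v χ) (fun χ ψ : ι => m χ ψ) := by
    intro w m hm hreal hsec hid hwQ hdiag
    have hsymm : ∀ χ ψ, m χ ψ = m ψ χ := fun χ ψ => by
      have h := Mw_conj hreal χ ψ
      rw [hm, hm, map_intCast] at h
      exact_mod_cast h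
    refine ⟨fun i j => hsymm _ _, fun i j => ?_, fun i => ?_, hdiag⟩
    · have h := Mw_mul hM hsec w hB i.2 (j : IrrCharacter G)
      rw [hid, Mw_smul, hsub] at h
      simp only [hm] at h
      exact_mod_cast h.symm
    · have h := Mw_mul hM hQsec w hB htriv (i : IrrCharacter G)
      rw [hwQ, Mw_smul, hQv _ htriv _ i.2, hvtriv, hsub,
        Finset.sum_congr rfl fun (φ : ι) _ => show Mw Q (principalIrr G) φ * Mw w φ i =
          (m i φ : ℂ) * (v φ : ℂ) by
            rw [hQv _ htriv _ φ.2, hvtriv, hm, hsymm]; push_cast; ring] at h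
      push_cast at h
      rw [one_mul] at h
      exact_mod_cast h.symm
  -- diagonal entries
  have hdiag : ∀ u : ι, v u ^ 2 = 4 → a u u = 2 ∧ b u u = 2 := by
    intro u hu
    set χ : IrrCharacter G := (u : IrrCharacter G)
    have hQu : Mw Q χ χ = 4 := by
      rw [hQv _ u.2 _ u.2, ← pow_two]; exact_mod_cast hu
    set wR : G → ℕ := fun g => if tt g ∈ W ∧ tt g ∈ W' then 4 else 0 with hwR
    set wY : G → ℕ := fun g => if tt g ∈ W ∧ tt g ∉ W' then 4 else 0 with hwY
    set wZ : G → ℕ := fun g => if tt g ∈ W' ∧ tt g ∉ W then 4 else 0 with hwZ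
    have e1 : FA + FB + (fun g => (wR g : ℂ)) = (4 : ℂ) • (1 : G → ℂ) + (4 : ℂ)⁻¹ • Q :=
      funext fun g => by
        simp only [hQ, hwR, Pi.add_apply, Pi.smul_apply, Pi.mul_apply, Pi.one_apply, hPA, hPB,
          smul_eq_mul]
        split_ifs <;> first | tauto | norm_num
    have e2 : FA = (4 : ℂ)⁻¹ • Q + fun g => (wY g : ℂ) := funext fun g => by
      simp only [hQ, hwY, Pi.add_apply, Pi.smul_apply, Pi.mul_apply, hPA, hPB, smul_eq_mul]
      split_ifs <;> first | tauto | norm_num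
    have e3 : FB = (4 : ℂ)⁻¹ • Q + fun g => (wZ g : ℂ) := funext fun g => by
      simp only [hQ, hwZ, Pi.add_apply, Pi.smul_apply, Pi.mul_apply, hPA, hPB, smul_eq_mul]
      split_ifs <;> first | tauto | norm_num
    have f1 := congrArg (fun w => (Mw w χ χ).re) e1
    have f2 := congrArg (fun w => (Mw w χ χ).re) e2
    have f3 := congrArg (fun w => (Mw w χ χ).re) e3
    simp only [Mw_add, Mw_smul, Mw_one, if_true, hQu, ha, hb] at f1 f2 f3
    norm_num at f1 f2 f3
    have p1 : 0 < (Mw (fun g => (wR g : ℂ)) χ χ).re := by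
      refine Mw_pos (fun g => rfl) (g₀ := (1 : G)) ?_ (irr_one_ne_zero χ)
      simp [hwR, (hrep (one_mem (P : Subgroup G))).1, (hrep (one_mem (P : Subgroup G))).2]
    have p2 : 0 < (Mw (fun g => (wY g : ℂ)) χ χ).re := by
      refine Mw_pos (fun g => rfl) (g₀ := y) ?_ (F.apply_ne_zero hM (F.side.le hy) u.2)
      simp [hwY, (hrep (F.side.le hy)).1, (hrep (F.side.le hy)).2, hy, hyW']
    have p3 : 0 < (Mw (fun g => (wZ g : ℂ)) χ χ).re := by
      refine Mw_pos (fun g => rfl) (g₀ := z) ?_ (F.apply_ne_zero hM (F.side'.le hz) u.2)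
      simp [hwZ, (hrep (F.side'.le hz)).1, (hrep (F.side'.le hz)).2, hz, hzW]
    have q1 : (1 : ℤ) < a χ χ := by exact_mod_cast (show (1 : ℝ) < (a χ χ : ℝ) by linarith)
    have q2 : (1 : ℤ) < b χ χ := by exact_mod_cast (show (1 : ℝ) < (b χ χ : ℝ) by linarith)
    have q3 : a χ χ + b χ χ < 5 := by
      exact_mod_cast (show ((a χ χ : ℝ) + (b χ χ : ℝ)) < 5 by linarith)
    omega
  have hQA : FA * Q = (4 : ℂ) • Q := by rw [hQ, ← mul_assoc, hidA, smul_mul_assoc]
  have hQB : FB * Q = (4 : ℂ) • Q := by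
    rw [hQ, mul_comm FA, ← mul_assoc, hidB, smul_mul_assoc, mul_comm FB]
  have hpA := hproj FA a ha hrealA hAsec hidA hQA fun u hu => (hdiag u hu).1
  have hpB := hproj FB b hb hrealB hBsec hidB hQB fun u hu => (hdiag u hu).2
  have hAB : ∀ i j : ι, ∑ k : ι, a i k * b k j = v i * v j := by
    intro i j
    have h := Mw_mul hM hAsec FB hB i.2 (j : IrrCharacter G)
    rw [mul_comm FB, ← hQ, hQv _ i.2 _ j.2, hsub] at h
    simp only [ha, hb] at h
    exact_mod_cast h.symm
  have hall := all_one hpA hpB hAB (fun i => hsmall _ i.2) (by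
    refine (Finset.card_le_card_of_injOn (fun i : ι => (i : IrrCharacter G)) (fun i hi => ?_)
      (fun i _ j _ e => Subtype.ext e)).trans hfew
    simp only [Finset.coe_filter, Finset.mem_univ, true_and, Set.mem_ofPred_eq] at hi ⊢
    exact ⟨Finset.mem_filter.2 ⟨Finset.mem_univ _, i.2⟩, hi⟩)
  have h16 : (BF.card : ℤ) = 16 := by
    rw [← hsum16, Finset.sum_congr rfl fun χ hχ => hall ⟨χ, (Finset.mem_filter.1 hχ).2⟩,
      Finset.sum_const, nsmul_eq_mul, mul_one]
  omega

end CfsgLib.Elem16
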