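import Cfsg.Agent.Lib.Characters.BrauerInduction
import Cfsg.Agent.Lib.Characters.Induction
import Cfsg.Agent.Lib.Characters.Generalized
import Cfsg.Agent.Lib.Involutions.ElementaryOdd
import Cfsg.Agent.Lib.Transfer.Hall
import Cfsg.Agent.Lib.Blocks.BlockParts
import Cfsg.Agent.Lib.Blocks.SectionNorm

/-!
# Class functions which are constant on the sections

The multiplication matrices of such functions respect the blocks; the index times the indicator of
the sections of a strongly closed subgroup of an abelian Sylow subgroup is a generalised character.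
-/

set_option autoImplicit false
set_option linter.unusedSectionVars false
set_option linter.style.haveILetI false

noncomputable section

namespace CfsgLib.Elem16

open Cfsg CfsgLib.Characters CfsgLib.Blocks
open scoped ComplexConjugate Classical

universe u

variable {G : Type u} [Group G] [Fintype G] {p : ℕ} {M : Ideal AlgInt}

/-- A class function which is constant on each `p`-section. -/
def SecConst (p : ℕ) (w : G → ℂ) : Prop :=
  IsClassFunction G w ∧ ∀ g u : G, IsPPart p g u → w g = w u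

theorem SecConst.one : SecConst p (1 : G → ℂ) := ⟨fun _ _ => rfl, fun _ _ _ => rfl⟩

theorem SecConst.sub {w w' : G → ℂ} (h : SecConst p w) (h' : SecConst p w') : SecConst p (w - w') :=
  ⟨isClassFunction_sub h.1 h'.1, fun g u hu => by simp [h.2 g u hu, h'.2 g u hu]⟩

theorem SecConst.add {w w' : G → ℂ} (h : SecConst p w) (h' : SecConst p w') : SecConst p (w + w') :=
  ⟨isClassFunction_add h.1 h'.1, fun g u hu => by simp [h.2 g u hu, h'.2 g u hu]⟩

theorem SecConst.mul {w w' : G → ℂ} (h : SecConst p w) (h' : SecConst p w') : SecConst p (w * w') :=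
  ⟨isClassFunction_mul h.1 h'.1, fun g u hu => by simp [h.2 g u hu, h'.2 g u hu]⟩

/-- The entry of the matrix of the multiplication by `w`. -/
def Mw (w : G → ℂ) (χ ψ : IrrCharacter G) : ℂ :=
  classInner (w * (χ : G → ℂ)) (ψ : G → ℂ)

theorem Mw_eq (w : G → ℂ) (χ ψ : IrrCharacter G) :
    Mw w χ ψ = (Nat.card G : ℂ)⁻¹ * ∑ g, w g * (χ : G → ℂ) g * conj ((ψ : G → ℂ) g) := rfl

theorem Mw_add (w w' : G → ℂ) (χ ψ : IrrCharacter G) :
    Mw (w + w') χ ψ = Mw w χ ψ + Mw w' χ ψ := by
  simp only [Mw_eq, Pi.add_apply, add_mul, Finset.sum_add_distrib, mul_add]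

theorem Mw_sub (w w' : G → ℂ) (χ ψ : IrrCharacter G) :
    Mw (w - w') χ ψ = Mw w χ ψ - Mw w' χ ψ := by
  simp only [Mw_eq, Pi.sub_apply, sub_mul, Finset.sum_sub_distrib, mul_sub]

theorem Mw_smul (a : ℂ) (w : G → ℂ) (χ ψ : IrrCharacter G) :
    Mw (a • w) χ ψ = a * Mw w χ ψ := by
  simp only [Mw_eq, Pi.smul_apply, smul_eq_mul, mul_assoc, ← Finset.mul_sum]
  ring

theorem Mw_one (χ ψ : IrrCharacter G) : Mw (1 : G → ℂ) χ ψ = if χ = ψ then 1 else 0 := by
  rw [Mw, one_mul, classInner_irr]

theorem Mw_conj {w : G → ℂ} (hw : ∀ g, conj (w g) = w g) (χ ψ : IrrCharacter G) :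
    conj (Mw w χ ψ) = Mw w ψ χ := by
  simp only [Mw_eq, map_mul, map_inv₀, Complex.conj_natCast, map_sum, hw, Complex.conj_conj]
  exact congrArg _ (Finset.sum_congr rfl fun g _ => by ring)

variable [hp : Fact p.Prime]

/-- A function constant on sections preserves the spans of the blocks. -/
theorem Mw_eq_zero (hM : IsPModular p M) {w : G → ℂ} (hw : SecConst p w) {B : Set (IrrCharacter G)}
    (hB : IsPBlock M B) {χ ψ : IrrCharacter G} (hχ : χ ∉ B) (hψ : ψ ∈ B) : Mw w χ ψ = 0 := by
  set f : G → ℂ := w * (χ : G → ℂ) with hf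
  have h0 : ∀ g : G, blockPart B f g = 0 := by
    intro g
    obtain ⟨u, hu⟩ := exists_isPPart hM.1 g
    have h1 : blockPart B (f - w u • (χ : G → ℂ)) g = 0 := by
      refine blockPart_eq_zero_of_section hM hB (x := u) (fun h z hz huz => ?_) hu (IsConj.refl u)
      have e : w h = w u := (hw.2 h z hz).trans (classFunction_eq_of_isConj hw.1 huz).symm
      simp [hf, e]
    have h2 : blockPart B (χ : G → ℂ) g = 0 := by rw [blockPart_irr, if_neg hχ]
    rw [blockPart_eq_sum] at h1 h2 ⊢
    simp only [classInner_sub_left, classInner_smul_left, sub_mul, Finset.sum_sub_distrib,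
      mul_assoc, ← Finset.mul_sum, h2, mul_zero, sub_zero] at h1
    exact h1
  have hfun : (∑ φ ∈ Finset.univ.filter (· ∈ B), classInner f (φ : G → ℂ) • (φ : G → ℂ)) = 0 := by
    funext g
    simpa [blockPart_eq_sum] using h0 g
  have h3 := classInner_irr_sum (Finset.univ.filter (· ∈ B)) (fun φ => classInner f (φ : G → ℂ)) ψ
  rw [hfun, if_pos (Finset.mem_filter.2 ⟨Finset.mem_univ _, hψ⟩)] at h3
  rw [Mw, ← hf, ← h3]
  simp [classInner]

theorem mul_eq_sum (hM : IsPModular p M) {w : G → ℂ} (hw : SecConst p w) {B : Set (IrrCharacter G)}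
    (hB : IsPBlock M B) {χ : IrrCharacter G} (hχ : χ ∈ B) :
    w * (χ : G → ℂ) = ∑ φ ∈ Finset.univ.filter (· ∈ B), Mw w χ φ • (φ : G → ℂ) := by
  conv_lhs => rw [classFunction_eq_sum (isClassFunction_mul hw.1 (irr_isClassFunction χ))]
  refine (Finset.sum_subset (Finset.subset_univ _) fun φ _ hφ => ?_).symm
  have hφ' : φ ∉ B := fun h => hφ (Finset.mem_filter.2 ⟨Finset.mem_univ _, h⟩)
  have : Mw w χ φ = 0 := Mw_eq_zero hM hw (isPBlock_blockOf φ)
    (fun h => hφ' ((IsPBlock.eq_blockOf hM hB hχ).trans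
      (IsPBlock.eq_blockOf hM (isPBlock_blockOf φ) h).symm ▸ mem_blockOf_self hM φ))
    (mem_blockOf_self hM φ)
  rw [show classInner (w * (χ : G → ℂ)) (φ : G → ℂ) = 0 from this, zero_smul]

/-- The matrices on a block multiply as the functions do. -/
theorem Mw_mul (hM : IsPModular p M) {w : G → ℂ} (hw : SecConst p w) (w' : G → ℂ)
    {B : Set (IrrCharacter G)} (hB : IsPBlock M B) {χ : IrrCharacter G} (hχ : χ ∈ B)
    (ψ : IrrCharacter G) :
    Mw (w' * w) χ ψ = ∑ φ ∈ Finset.univ.filter (· ∈ B), Mw w χ φ * Mw w' φ ψ := by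
  rw [Mw, mul_assoc, mul_eq_sum hM hw hB hχ, Finset.mul_sum, classInner_sum_left]
  refine Finset.sum_congr rfl fun φ _ => ?_
  rw [mul_smul_comm, classInner_smul_left]
  rfl

omit hp

/-- Some conjugate of the `p`-part of `g` lies in `W`. -/
def Into (p : ℕ) (W : Subgroup G) (g : G) : Prop :=
  ∃ u, IsPPart p g u ∧ ∃ a, a * u * a⁻¹ ∈ W

theorem into_conj {W : Subgroup G} {g : G} (c : G) (h : Into p W g) : Into p W (c * g * c⁻¹) := by
  obtain ⟨u, hu, a, ha⟩ := h
  refine ⟨_, IsPPart.conj hu c, a * c⁻¹, ?_⟩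
  convert ha using 1
  group

include hp

theorem into_iff {W : Subgroup G} {g u : G} (hu : IsPPart p g u) :
    Into p W g ↔ ∃ a, a * u * a⁻¹ ∈ W :=
  ⟨fun ⟨_, hu', h⟩ => IsPPart.unique hp.out hu' hu ▸ h, fun h => ⟨u, hu, h⟩⟩

theorem into_of_pElement {W : Subgroup G} {u : G} (hu : ∃ k : ℕ, orderOf u = p ^ k) :
    Into p W u ↔ ∃ a, a * u * a⁻¹ ∈ W := by
  refine into_iff ?_
  have h := isPPart_mul (x := u) (y := 1) (Commute.one_right u) hu
    (by rw [orderOf_one]; exact hp.out.not_dvd_one)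
  rwa [mul_one] at h

/-- The index times the indicator of the sections of `W`. -/
def sectInd (P : Sylow p G) (W : Subgroup G) (g : G) : ℂ :=
  if Into p W g then (W.relIndex (P : Subgroup G) : ℂ) else 0

theorem sectInd_secConst (P : Sylow p G) (W : Subgroup G) : SecConst p (sectInd P W) := by
  refine ⟨fun g c => ?_, fun g u hu => ?_⟩
  · have : Into p W (c * g * c⁻¹) ↔ Into p W g := by
      refine ⟨fun h => ?_, into_conj c⟩
      have := into_conj c⁻¹ h
      simpa [mul_assoc] using this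
    simp only [sectInd, this]
  · obtain ⟨w, -, -, hord, -⟩ := id hu
    simp only [sectInd, into_iff hu, into_of_pElement hord]

/-- For a strongly closed subgroup of an abelian Sylow subgroup this is a generalised character. -/
theorem sectInd_generalized (P : Sylow p G) {W : Subgroup G} (hW : W ≤ (P : Subgroup G))
    (hab : ∀ x ∈ (P : Subgroup G), ∀ y ∈ (P : Subgroup G), x * y = y * x)
    (hclosed : ∀ x ∈ W, ∀ g : G, g * x * g⁻¹ ∈ (P : Subgroup G) → g * x * g⁻¹ ∈ W) :
    IsGeneralizedCharacter G (sectInd P W) := by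
  refine CfsgLib.Brauer.isGeneralizedCharacter_of_restrictions (sectInd_secConst P W).1
    fun E q hq hE => ?_
  haveI := Involutions.isNilpotent_of_isElementary hq hE
  obtain ⟨Q⟩ := (inferInstance : Nonempty (Sylow p E))
  obtain ⟨S, hS⟩ := (Q.2.map E.subtype).exists_le_sylow
  obtain ⟨a, ha⟩ := MulAction.exists_smul_eq G S P
  have haQ : ∀ x ∈ (Q : Subgroup E), a * (x : G) * a⁻¹ ∈ (P : Subgroup G) := fun x hx => by
    have h1 : (x : G) ∈ (S : Subgroup G) := hS ⟨x, hx, rfl⟩
    rw [← ha, Sylow.coe_subgroup_smul]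
    exact Subgroup.smul_mem_pointwise_smul _ (MulAut.conj a) _ h1
  have hQab : ∀ x ∈ (Q : Subgroup E), ∀ y ∈ (Q : Subgroup E), x * y = y * x := fun x hx y hy => by
    apply Subtype.ext
    have h := hab _ (haQ x hx) _ (haQ y hy)
    simp only [Subgroup.coe_mul]
    calc (x : G) * y = a⁻¹ * (a * x * a⁻¹ * (a * y * a⁻¹)) * a := by group
      _ = a⁻¹ * (a * y * a⁻¹ * (a * x * a⁻¹)) * a := by rw [h]
      _ = (y : G) * x := by group
  have hcen : Subgroup.centralizer ((Q : Subgroup E) : Set E) = ⊤ := by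
    rw [eq_top_iff, ← CfsgLib.Transfer.sylow_sup_centralizer_eq_top_of_isNilpotent Q]
    exact sup_le (fun x hx => Subgroup.mem_centralizer_iff.2 fun y hy => hQab y hy x hx) le_rfl
  have hNC : Subgroup.normalizer ((Q : Subgroup E) : Set E) ≤
      Subgroup.centralizer ((Q : Subgroup E) : Set E) := hcen ▸ le_top
  set R := (MonoidHom.transferSylow Q hNC).ker
  have hcompl : Subgroup.IsComplement' R (Q : Subgroup E) :=
    MonoidHom.ker_transferSylow_isComplement' Q hNC
  have hR : ¬ p ∣ Nat.card R := MonoidHom.not_dvd_card_ker_transferSylow Q hNC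
  have hsplit : ∀ e : E, ∃ r ∈ R, ∃ x ∈ (Q : Subgroup E), e = r * x ∧ IsPPart p (e : G) (x : G) := by
    intro e
    obtain ⟨r, hr, x, hx, rfl⟩ := Subgroup.mem_sup_of_normal_left.1
      (hcompl.sup_eq_top ▸ Subgroup.mem_top e : e ∈ R ⊔ (Q : Subgroup E))
    refine ⟨r, hr, x, hx, rfl, ?_⟩
    have hc : x * r = r * x :=
      (Subgroup.mem_centralizer_iff.1 (hcen ▸ Subgroup.mem_top r) x hx)
    rw [← hc, Subgroup.coe_mul]
    refine isPPart_mul ?_ ?_ ?_
    · exact congrArg Subtype.val hc
    · obtain ⟨k, hk⟩ := IsPGroup.iff_orderOf.1 Q.2 ⟨x, hx⟩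
      exact ⟨k, by rw [Subgroup.orderOf_coe, ← hk, Subgroup.orderOf_mk x hx]⟩
    · rw [Subgroup.orderOf_coe, ← Subgroup.orderOf_mk r hr]
      exact fun h => hR (h.trans (orderOf_dvd_natCard _))
  -- the map `Q → P`
  let φ : (Q : Subgroup E) →* (P : Subgroup G) :=
    { toFun := fun x => ⟨a * ((x : E) : G) * a⁻¹, haQ _ x.2⟩
      map_one' := Subtype.ext (by simp)
      map_mul' := fun x y => Subtype.ext (by simp [mul_assoc]) }
  have hQW : ∀ x (hx : x ∈ (Q : Subgroup E)) (e : E), IsPPart p (e : G) (x : G) →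
      (Into p W (e : G) ↔ φ ⟨x, hx⟩ ∈ W.subgroupOf (P : Subgroup G)) := by
    intro x hx e hpp
    rw [into_iff hpp, Subgroup.mem_subgroupOf]
    refine ⟨fun ⟨b, hb⟩ => ?_, fun h => ⟨a, h⟩⟩
    have h1 := hclosed _ hb (a * b⁻¹)
    have e1 : a * b⁻¹ * (b * x * b⁻¹) * (a * b⁻¹)⁻¹ = a * x * a⁻¹ := by group
    rw [e1] at h1
    exact h1 (haQ x hx)
  let K : Subgroup E :=
    { carrier := {e | Into p W (e : G)}
      one_mem' := (into_of_pElement ⟨0, by simp⟩).2 ⟨1, by simp⟩
      mul_mem' := by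
        intro e e' he he'
        obtain ⟨r, hr, x, hx, rfl, hp1⟩ := hsplit e
        obtain ⟨r', hr', x', hx', rfl, hp2⟩ := hsplit e'
        obtain ⟨r'', hr'', x'', hx'', heq, hp3⟩ := hsplit (r * x * (r' * x'))
        have hc : x * r' = r' * x :=
          (Subgroup.mem_centralizer_iff.1 (hcen ▸ Subgroup.mem_top r') x hx)
        have h2 : r * x * (r' * x') = (r * r') * (x * x') := by
          rw [mul_assoc r x, ← mul_assoc x r', hc]; group
        have h3 : x'' = x * x' := by
          have h4 := Subtype.ext_iff.1 (congrArg Prod.snd (hcompl.1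
            (a₁ := (⟨r'', hr''⟩, ⟨x'', hx''⟩)) (a₂ := (⟨r * r', mul_mem hr hr'⟩, ⟨x * x', mul_mem hx hx'⟩))
            (heq.symm.trans h2)))
          exact h4
        subst h3
        show Into p W _
        rw [hQW _ hx'' _ hp3]
        rw [Set.mem_ofPred_eq, hQW _ hx _ hp1] at he
        rw [Set.mem_ofPred_eq, hQW _ hx' _ hp2] at he'
        exact (map_mul φ ⟨x, hx⟩ ⟨x', hx'⟩).symm ▸ mul_mem he he'
      inv_mem' := by
        intro e he
        obtain ⟨u, hu, b, hb⟩ := he
        obtain ⟨w, hw, hc, hord, hwp⟩ := hu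
        refine ⟨u⁻¹, ?_, b, ?_⟩
        · rw [InvMemClass.coe_inv, ← hw, hc.eq, mul_inv_rev]
          exact isPPart_mul hc.inv_inv (by simpa using hord) (by rwa [orderOf_inv])
        · have := inv_mem hb
          simpa [mul_assoc] using this }
  haveI : K.Normal := ⟨fun e he g => by
    show Into p W _
    simp only [Subgroup.coe_mul, InvMemClass.coe_inv]
    exact into_conj _ he⟩
  have hidx : K.index ∣ W.relIndex (P : Subgroup G) := by
    have hsup : (Q : Subgroup E) ⊔ K = ⊤ := by
      refine top_le_iff.1 fun e _ => ?_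
      obtain ⟨r, hr, x, hx, rfl, hpp⟩ := hsplit e
      refine mul_mem (Subgroup.mem_sup_right ?_) (Subgroup.mem_sup_left hx)
      show Into p W _
      have : IsPPart p (r : G) (1 : G) := by
        have h := isPPart_mul (x := (1 : G)) (y := (r : G)) (Commute.one_left _)
          ⟨0, by simp⟩ (by
            rw [Subgroup.orderOf_coe, ← Subgroup.orderOf_mk r hr]
            exact fun h => hR (h.trans (orderOf_dvd_natCard _)) : ¬ p ∣ orderOf (r : G))
        rwa [one_mul] at h
      exact (into_iff this).2 ⟨1, by simp⟩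
    have hcomap : K.subgroupOf (Q : Subgroup E) = (W.subgroupOf (P : Subgroup G)).comap φ := by
      ext x
      rw [Subgroup.mem_subgroupOf, Subgroup.mem_comap]
      have hpp : IsPPart p ((x : E) : G) ((x : E) : G) := by
        obtain ⟨k, hk⟩ := IsPGroup.iff_orderOf.1 Q.2 x
        have h := isPPart_mul (x := ((x : E) : G)) (y := (1 : G)) (Commute.one_right _)
          ⟨k, by rw [Subgroup.orderOf_coe, Subgroup.orderOf_coe, hk]⟩
          (by rw [orderOf_one]; exact hp.out.not_dvd_one)
        rwa [mul_one] at h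
      exact hQW _ x.2 _ hpp
    rw [← Subgroup.relIndex_top_right, ← hsup, Subgroup.relIndex_sup_right, Subgroup.relIndex,
      hcomap, Subgroup.index_comap]
    haveI : (W.subgroupOf (P : Subgroup G)).Normal := ⟨fun x hx g => by
      rw [Subgroup.mem_subgroupOf] at hx ⊢
      simp only [Subgroup.coe_mul, InvMemClass.coe_inv]
      rwa [hab g g.2 x (hW hx), mul_inv_cancel_right]⟩
    exact Subgroup.relIndex_dvd_index_of_normal _ _
  obtain ⟨c, hc⟩ := hidx
  have hchar : IsCharacter E
      (CfsgLib.Induction.indLinear (H := K) (fun _ => (1 : ℂ))) :=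
    CfsgLib.Induction.isCharacter_indFun _ CfsgLib.Induction.isCharacter_const_one
  have heq : (fun e : E => sectInd P W (e : G)) =
      (c : ℂ) • CfsgLib.Induction.indLinear (H := K) (fun _ => (1 : ℂ)) := by
    funext e
    change sectInd P W (e : G) = (c : ℂ) * indFun K (fun _ => (1 : ℂ)) e
    by_cases he : e ∈ K
    · have h1 : indFun K (fun _ => (1 : ℂ)) e = (K.index : ℂ) := by
        have h2 := CfsgLib.Induction.indFun_normal_apply (H := K) (fun _ => (1 : ℂ)) ⟨e, he⟩
        rw [Finset.sum_const, Finset.card_univ, ← Nat.card_eq_fintype_card, nsmul_one] at h2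
        rw [show indFun K (fun _ => (1 : ℂ)) e = _ from h2, ← K.index_mul_card, Nat.cast_mul]
        field_simp [(Nat.cast_ne_zero.mpr Nat.card_pos.ne' : (Nat.card K : ℂ) ≠ 0)]
      rw [sectInd, if_pos (show Into p W (e : G) from he), h1, hc, Nat.cast_mul, mul_comm]
    · rw [sectInd, if_neg (show ¬ Into p W (e : G) from he),
        CfsgLib.Induction.indFun_normal_eq_zero (H := K) he, mul_zero]
  rw [heq]
  exact isGeneralizedCharacter_natCast_smul (isGeneralizedCharacter_of_isCharacter hchar) _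

end CfsgLib.Elem16
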