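import Mathlib

/-!
# A group of order nine of automorphisms of a group of order sixteen

The orbits on the fifteen nontrivial elements have sizes `3`, `3`, `9`; the two short ones complete
to complementary subgroups of order four.
-/

set_option autoImplicit false
set_option linter.unusedSectionVars false

namespace CfsgLib.Elem16

variable {V : Type*} [Group V] [Finite V] {E : Subgroup (MulAut V)}

/-- `W` is a short orbit with `1`, and its stabiliser rotates `W'`. -/
structure Side (E : Subgroup (MulAut V)) (W W' : Subgroup V) : Prop where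
  card : Nat.card W = 4
  inv : ∀ e ∈ E, ∀ x ∈ W, e x ∈ W
  trans : ∀ x ∈ W, x ≠ 1 → ∀ x' ∈ W, x' ≠ 1 → ∃ e ∈ E, e x = x'
  fix : ∀ e ∈ E, ∀ x ∈ W, x ≠ 1 → e x = x → ∀ w ∈ W, e w = w
  rot : ∀ y ∈ W, y ≠ 1 → ∀ w ∈ W', w ≠ 1 → ∀ w' ∈ W', w' ≠ 1 → ∃ e ∈ E, e y = y ∧ e w = w'

/-- The elements fixed by every element of `S`. -/
def fixSub (S : Set (MulAut V)) : Subgroup V where
  carrier := {v | ∀ e ∈ S, e v = v}
  one_mem' := fun e _ => map_one e
  mul_mem' := fun ha hb e he => by rw [map_mul, ha e he, hb e he]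
  inv_mem' := fun ha e he => by rw [map_inv, ha e he]

theorem mem_fixSub {S : Set (MulAut V)} {v : V} : v ∈ fixSub S ↔ ∀ e ∈ S, e v = v := Iff.rfl

theorem card_options (hV : Nat.card V = 16) {W : Subgroup V} (h : 16 ≡ Nat.card W [MOD 3]) :
    Nat.card W = 1 ∨ Nat.card W = 4 ∨ Nat.card W = 16 := by
  have hdvd : Nat.card W ∣ 2 ^ 4 := by
    have := W.card_subgroup_dvd_card
    rw [hV] at this; exact this
  obtain ⟨i, hi, hc⟩ := (Nat.dvd_prime_pow Nat.prime_two).1 hdvd
  rw [hc] at h ⊢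
  interval_cases i <;> simp_all [Nat.ModEq]

theorem card_fix_le (hV : Nat.card V = 16) (hE : Nat.card E = 9) {e : MulAut V} (he : e ∈ E)
    (hne : e ≠ 1) : Nat.card (fixSub ({e} : Set (MulAut V))) ≤ 4 := by
  have : Fact (Nat.Prime 3) := ⟨Nat.prime_three⟩
  have hP : IsPGroup 3 (Subgroup.zpowers e) :=
    (IsPGroup.of_card (n := 2) (by rw [hE]; norm_num) : IsPGroup 3 E).to_le (Subgroup.zpowers_le.2 he)
  have h := hP.card_modEq_card_fixedPoints V
  have heq : MulAction.fixedPoints (Subgroup.zpowers e) V = (fixSub ({e} : Set (MulAut V)) : Set V) := by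
    ext v
    rw [MulAction.mem_fixedPoints, SetLike.mem_coe, mem_fixSub]
    constructor
    · intro h f hf
      rw [Set.mem_singleton_iff.1 hf]
      exact h ⟨e, Subgroup.mem_zpowers e⟩
    · rintro h ⟨f, hf⟩
      have h1 : e ∈ MulAction.stabilizer (MulAut V) v := h e rfl
      exact Subgroup.zpowers_le.2 h1 hf
  rw [heq, hV] at h
  rcases card_options hV (W := fixSub ({e} : Set (MulAut V))) h with h1 | h1 | h1
  · omega
  · omega
  · refine absurd (MulEquiv.ext fun v => ?_) hne
    have := Subgroup.card_eq_iff_eq_top (fixSub ({e} : Set (MulAut V))) |>.1 (h1.trans hV.symm)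
    exact (this ▸ Subgroup.mem_top v : v ∈ fixSub ({e} : Set (MulAut V))) e rfl

theorem fix_all_trivial (hV : Nat.card V = 16) (hE : Nat.card E = 9) {v : V}
    (hv : ∀ e ∈ E, e v = v) : v = 1 := by
  by_contra hv1
  have : Fact (Nat.Prime 3) := ⟨Nat.prime_three⟩
  have h := (IsPGroup.of_card (n := 2) (by rw [hE]; norm_num) : IsPGroup 3 E).card_modEq_card_fixedPoints V
  have heq : MulAction.fixedPoints E V = (fixSub (E : Set (MulAut V)) : Set V) := by
    ext w
    rw [MulAction.mem_fixedPoints, SetLike.mem_coe, mem_fixSub]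
    exact ⟨fun h e he => h ⟨e, he⟩, fun h e => h e e.2⟩
  rw [heq, hV] at h
  rcases card_options hV (W := fixSub (E : Set (MulAut V))) h with h1 | h1 | h1
  · have := Subgroup.card_eq_one.1 h1
    exact hv1 (Subgroup.mem_bot.1 (this ▸ hv : v ∈ (⊥ : Subgroup V)))
  · have hfree : ∀ w : V, w ∉ fixSub (E : Set (MulAut V)) → (MulAction.orbit E w).ncard = 9 := by
      intro w hw
      rw [← MulAction.index_stabilizer, ← hE]
      have hbot : MulAction.stabilizer E w = ⊥ := by
        rw [Subgroup.eq_bot_iff_forall]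
        rintro ⟨e, he⟩ hew
        by_contra hne
        have hne' : e ≠ 1 := fun h0 => hne (Subtype.ext h0)
        have hle : fixSub (E : Set (MulAut V)) ≤ fixSub ({e} : Set (MulAut V)) :=
          fun u hu f hf => hu f (Set.mem_singleton_iff.1 hf ▸ he)
        have hq := Subgroup.eq_of_le_of_card_ge hle (by rw [h1]; exact card_fix_le hV hE he hne')
        exact hw (hq ▸ fun f hf => Set.mem_singleton_iff.1 hf ▸ hew)
      rw [hbot, Subgroup.index_bot]
    set F0 : Set V := (fixSub (E : Set (MulAut V)) : Set V)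
    have hF0 : F0.ncard = 4 := h1
    obtain ⟨w, -, hw⟩ : ∃ w ∈ (Set.univ : Set V), w ∉ F0 :=
      Set.exists_mem_notMem_of_ncard_lt_ncard (by rw [Set.ncard_univ, hV, hF0]; norm_num)
    obtain ⟨u, -, hu⟩ : ∃ u ∈ (Set.univ : Set V), u ∉ F0 ∪ MulAction.orbit E w :=
      Set.exists_mem_notMem_of_ncard_lt_ncard (lt_of_le_of_lt (Set.ncard_union_le _ _)
        (by rw [Set.ncard_univ, hV, hF0, hfree w hw]; norm_num))
    simp only [Set.mem_union, not_or] at hu
    have hd : Disjoint (MulAction.orbit E w) (MulAction.orbit E u) := by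
      rw [Set.disjoint_left]
      intro z hz hz'
      exact hu.2 (((MulAction.orbit_eq_iff.2 hz).symm.trans (MulAction.orbit_eq_iff.2 hz')) ▸
        MulAction.mem_orbit_self u)
    have h2 := Set.ncard_union_eq hd
    have hd' : Disjoint F0 (MulAction.orbit E w ∪ MulAction.orbit E u) := by
      rw [Set.disjoint_left]
      intro z hz hz'
      have hzfix : ∀ e : E, e • z = z := fun e => hz e e.2
      rcases hz' with hz' | hz' <;>
      · obtain ⟨e, rfl⟩ := hz'
        have h3 := hzfix e⁻¹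
        simp only [inv_smul_smul] at h3
        first
          | exact hw (by rw [h3]; exact hz)
          | exact hu.1 (by rw [h3]; exact hz)
    have h3 := Set.ncard_union_eq hd'
    rw [h2, hfree w hw, hfree u hu.1, hF0] at h3
    have := Set.ncard_le_ncard (Set.subset_univ (F0 ∪ (MulAction.orbit E w ∪ MulAction.orbit E u)))
    rw [Set.ncard_univ, hV] at this
    omega
  · have : Subsingleton E := ⟨fun a b => Subtype.ext (MulEquiv.ext fun w => by
      have hw := (Subgroup.card_eq_iff_eq_top _).1 (h1.trans hV.symm) ▸ Subgroup.mem_top w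
      exact ((hw : w ∈ fixSub (E : Set (MulAut V))) a a.2).trans (hw b b.2).symm)⟩
    have := Nat.card_of_subsingleton (1 : E)
    omega

theorem exists_free (hV : Nat.card V = 16) (hE : Nat.card E = 9) :
    ∃ x : V, x ≠ 1 ∧ ∀ e ∈ E, e x = x → e = 1 := by
  classical
  by_contra hcon
  push Not at hcon
  have : Fintype V := Fintype.ofFinite V
  have : Fintype E := Fintype.ofFinite E
  set S : Finset V := Finset.univ.filter (· ≠ 1)
  set T : Finset E := Finset.univ.filter (· ≠ 1)
  have hS : S.card = 15 := by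
    rw [show S = Finset.univ.erase 1 from Finset.filter_ne' _ _, Finset.card_erase_of_mem (Finset.mem_univ _), Finset.card_univ,
      ← Nat.card_eq_fintype_card, hV]
  have hT : T.card = 8 := by
    rw [show T = Finset.univ.erase 1 from Finset.filter_ne' _ _, Finset.card_erase_of_mem (Finset.mem_univ _), Finset.card_univ,
      ← Nat.card_eq_fintype_card, hE]
  have hlow : ∀ x ∈ S, 2 ≤ (T.filter fun e : E => (e : MulAut V) x = x).card := by
    intro x hx
    obtain ⟨e, he, hex, hne⟩ := hcon x (Finset.mem_filter.1 hx).2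
    have h3 : (3 : ℕ).Coprime 2 := by norm_num
    have hne2 : e⁻¹ ≠ e := fun h => by
      have h2 : orderOf (⟨e, he⟩ : E) ∣ 2 := orderOf_dvd_of_pow_eq_one (Subtype.ext (by
        show e ^ 2 = 1
        rw [sq]; nth_rewrite 1 [← h]; exact inv_mul_cancel e))
      have h9 : orderOf (⟨e, he⟩ : E) ∣ 9 := hE ▸ orderOf_dvd_natCard _
      have h1 := Nat.dvd_gcd h2 h9
      norm_num [Subgroup.orderOf_mk, orderOf_eq_one_iff] at h1
      exact hne h1
    refine Finset.one_lt_card_iff.2 ?_
    refine ⟨⟨e, he⟩, ⟨e⁻¹, inv_mem he⟩, ?_, ?_, fun h => hne2 (congrArg Subtype.val h).symm⟩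
    · exact Finset.mem_filter.2 ⟨Finset.mem_filter.2 ⟨Finset.mem_univ _, fun h =>
        hne (congrArg Subtype.val h)⟩, hex⟩
    · refine Finset.mem_filter.2 ⟨Finset.mem_filter.2 ⟨Finset.mem_univ _, fun h =>
        hne (inv_eq_one.1 (congrArg Subtype.val h))⟩, ?_⟩
      show e⁻¹ x = x
      nth_rewrite 1 [← hex]
      simp [MulAut.inv_apply]
  have hhigh : ∀ e ∈ T, (S.filter fun x => (e : MulAut V) x = x).card ≤ 3 := by
    intro e he
    have h4 := card_fix_le hV hE e.2 (fun h => (Finset.mem_filter.1 he).2 (Subtype.ext h))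
    have hsub : S.filter (fun x => (e : MulAut V) x = x) ⊆
        (Finset.univ.filter fun x => x ∈ fixSub ({(e : MulAut V)} : Set (MulAut V))).erase 1 := by
      intro x hx
      simp only [S, Finset.mem_filter, Finset.mem_univ, true_and] at hx
      simp [mem_fixSub, hx.1, hx.2]
    refine (Finset.card_le_card hsub).trans ?_
    rw [Finset.card_erase_of_mem (by simp [one_mem]), ← Fintype.card_subtype,
      ← Nat.card_eq_fintype_card]
    omega
  have hcount : ∑ x ∈ S, (T.filter fun e : E => (e : MulAut V) x = x).card =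
      ∑ e ∈ T, (S.filter fun x => (e : MulAut V) x = x).card := by
    simp only [Finset.card_filter]
    exact Finset.sum_comm
  have h1 := Finset.card_nsmul_le_sum S _ 2 hlow
  have h2 := Finset.sum_le_card_nsmul T _ 3 hhigh
  simp only [smul_eq_mul, hS, hT] at h1 h2
  omega

theorem ncard_orbit_cases (hE : Nat.card E = 9) (y : V) :
    (MulAction.orbit E y).ncard = 1 ∨ (MulAction.orbit E y).ncard = 3 ∨
      (MulAction.orbit E y).ncard = 9 := by
  rw [← MulAction.index_stabilizer]
  have h : (MulAction.stabilizer E y).index ∣ 3 ^ 2 := by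
    have := (MulAction.stabilizer E y).index_dvd_card
    rw [hE] at this; exact this
  obtain ⟨i, hi, hc⟩ := (Nat.dvd_prime_pow Nat.prime_three).1 h
  rw [hc]
  interval_cases i <;> simp

theorem comm_of_nine (hE : Nat.card E = 9) {a b : MulAut V} (ha : a ∈ E) (hb : b ∈ E) :
    a * b = b * a := by
  have : Fact (Nat.Prime 3) := ⟨Nat.prime_three⟩
  exact congrArg Subtype.val
    ((IsPGroup.isMulCommutative_of_card_eq_prime_sq (p := 3) (G := E) (by rw [hE]; norm_num)).is_comm.comm ⟨a, ha⟩ ⟨b, hb⟩)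

/-- The stabiliser of an element with an orbit of three. -/
def stab (E : Subgroup (MulAut V)) (y : V) : Set (MulAut V) := {e | e ∈ E ∧ e y = y}

theorem short_orbit (hV : Nat.card V = 16) (hE : Nat.card E = 9) {y : V} (hy1 : y ≠ 1)
    (hy : (MulAction.orbit E y).ncard = 3) :
    Nat.card (fixSub (stab E y)) = 4 ∧
      (fixSub (stab E y) : Set V) = insert 1 (MulAction.orbit E y) ∧
      ∃ e₁ ∈ E, e₁ ≠ 1 ∧ e₁ y = y ∧ ∀ v, e₁ v = v → v ∈ fixSub (stab E y) := by
  have hst : (MulAction.stabilizer E y) ≠ ⊥ := fun h => by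
    have h1 := MulAction.index_stabilizer E y
    rw [h, Subgroup.index_bot, hy, hE] at h1
    omega
  obtain ⟨⟨e₁, he₁⟩, hfix, hne⟩ := (Subgroup.bot_or_exists_ne_one _).resolve_left hst
  have hne' : e₁ ≠ 1 := fun h => hne (Subtype.ext h)
  have hfix' : e₁ y = y := hfix
  have hsub : insert 1 (MulAction.orbit E y) ⊆ (fixSub (stab E y) : Set V) := by
    rintro z (rfl | ⟨⟨f, hf⟩, rfl⟩)
    · exact one_mem _
    · rintro e ⟨he, hey⟩
      show e (f y) = f y
      rw [← MulAut.mul_apply, comm_of_nine hE he hf, MulAut.mul_apply, hey]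
  have hle : fixSub (stab E y) ≤ fixSub ({e₁} : Set (MulAut V)) := fun v hv f hf => by
    rw [Set.mem_singleton_iff.1 hf]; exact hv e₁ ⟨he₁, hfix'⟩
  have h4 : (insert 1 (MulAction.orbit E y) : Set V).ncard = 4 := by
    rw [Set.ncard_insert_of_notMem, hy]
    rintro ⟨⟨f, hf⟩, h⟩
    exact hy1 ((map_eq_one_iff f f.injective).1 h)
  have hc1 := Set.ncard_le_ncard hsub
  have hc2 : Nat.card (fixSub ({e₁} : Set (MulAut V))) ≤ 4 := card_fix_le hV hE he₁ hne'
  have hc3 := Subgroup.card_le_of_le hle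
  rw [h4, ← Nat.card_coe_set_eq] at hc1
  change 4 ≤ Nat.card (fixSub (stab E y)) at hc1
  have hcard : Nat.card (fixSub (stab E y)) = 4 := by omega
  refine ⟨hcard, (Set.eq_of_subset_of_ncard_le hsub (by rw [h4]; exact hcard.le)).symm,
    e₁, he₁, hne', hfix', fun v hv => ?_⟩
  rw [Subgroup.eq_of_le_of_card_ge hle (by omega)]
  exact fun f hf => by rw [Set.mem_singleton_iff.1 hf]; exact hv

theorem side_of_orbits (hV : Nat.card V = 16) (hE : Nat.card E = 9) {y z : V} (hy1 : y ≠ 1)
    (hz1 : z ≠ 1) (hy : (MulAction.orbit E y).ncard = 3) (hz : (MulAction.orbit E z).ncard = 3)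
    (hyz : z ∉ MulAction.orbit E y) : Side E (fixSub (stab E y)) (fixSub (stab E z)) := by
  obtain ⟨hcard, hset, e₁, he₁, hne, hey, hsat⟩ := short_orbit hV hE hy1 hy
  obtain ⟨hcard', hset', -⟩ := short_orbit hV hE hz1 hz
  have hmem : ∀ x : V, x ∈ fixSub (stab E y) ↔ x = 1 ∨ x ∈ MulAction.orbit E y := fun x => by
    rw [← SetLike.mem_coe, hset]; rfl
  have hmem' : ∀ x : V, x ∈ fixSub (stab E z) ↔ x = 1 ∨ x ∈ MulAction.orbit E z := fun x => by
    rw [← SetLike.mem_coe, hset']; rfl
  have hstab : ∀ {x : V}, x ∈ MulAction.orbit E y → ∀ e ∈ E, e x = x → e y = y := by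
    rintro _ ⟨⟨f, hf⟩, rfl⟩ e he h
    refine f.injective ?_
    show f (e y) = f y
    rw [← MulAut.mul_apply, comm_of_nine hE hf he, MulAut.mul_apply]
    exact h
  have htrans : ∀ {r : V}, ∀ x ∈ MulAction.orbit E r, ∀ x' ∈ MulAction.orbit E r,
      ∃ e ∈ E, e x = x' := by
    intro r x hx x' hx'
    rw [← MulAction.orbit_eq_iff.2 hx] at hx'
    obtain ⟨⟨e, he⟩, h⟩ := hx'
    exact ⟨e, he, h⟩
  refine ⟨hcard, fun e he x hx => ?_, fun x hx hx1 x' hx' hx'1 =>
    htrans x (((hmem x).1 hx).resolve_left hx1) x' (((hmem x').1 hx').resolve_left hx'1),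
    fun e he x hx hx1 hex w hw => hw e ⟨he, hstab (((hmem x).1 hx).resolve_left hx1) e he hex⟩, ?_⟩
  · rcases (hmem x).1 hx with rfl | h
    · rw [map_one]; exact one_mem _
    · exact (hmem _).2 (Or.inr (by
        rw [← MulAction.orbit_eq_iff.2 h]; exact ⟨⟨e, he⟩, rfl⟩))
  intro x hx hx1 w hw hw1 w' hw' hw'1
  have hex : e₁ x = x := hx e₁ ⟨he₁, hey⟩
  have hwo := ((hmem' w).1 hw).resolve_left hw1
  have hwo' := ((hmem' w').1 hw').resolve_left hw'1
  -- `e₁` moves `w`, and so does its square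
  have hmove : e₁ w ≠ w := by
    intro h
    rcases (hmem w).1 (hsat w h) with h' | h'
    · exact hw1 h'
    · exact hyz (((MulAction.orbit_eq_iff.2 hwo).symm.trans (MulAction.orbit_eq_iff.2 h')) ▸
        MulAction.mem_orbit_self z)
  have hcube : e₁ (e₁ (e₁ w)) = w → e₁ (e₁ w) ≠ w := fun h3 h2 => hmove (by rwa [h2] at h3)
  have h9 : (e₁ ^ 3) ^ 3 = 1 := by
    rw [← pow_mul, ← orderOf_dvd_iff_pow_eq_one, ← Subgroup.orderOf_mk e₁ he₁]
    exact (orderOf_dvd_natCard _).trans (by rw [hE])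
  have hsq : e₁ (e₁ w) ≠ w := by
    intro h2
    apply hmove
    have h8 : ∀ n : ℕ, (e₁ ^ (2 * n)) w = w := by
      intro n
      induction n with
      | zero => simp
      | succ n ih =>
        rw [show 2 * (n + 1) = 2 * n + 2 by ring, pow_add, MulAut.mul_apply, sq, MulAut.mul_apply,
          h2, ih]
    calc e₁ w = (e₁ * e₁ ^ (2 * 4)) w := by rw [MulAut.mul_apply, h8]
      _ = w := by rw [← pow_succ', show (2 * 4 + 1 : ℕ) = 3 * 3 by norm_num, pow_mul, h9]; rfl
  have hsub : ({w, e₁ w, e₁ (e₁ w)} : Set V) ⊆ MulAction.orbit E z := by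
    rw [← MulAction.orbit_eq_iff.2 hwo]
    rintro u (rfl | rfl | rfl)
    · exact MulAction.mem_orbit_self _
    · exact ⟨⟨e₁, he₁⟩, rfl⟩
    · exact ⟨⟨e₁, he₁⟩ * ⟨e₁, he₁⟩, rfl⟩
  have h3 : ({w, e₁ w, e₁ (e₁ w)} : Set V).ncard = 3 :=
    Set.ncard_eq_three.2 ⟨w, e₁ w, e₁ (e₁ w), hmove.symm, hsq.symm,
      fun h => hmove (e₁.injective h).symm, rfl⟩
  rw [← Set.eq_of_subset_of_ncard_le hsub (by rw [hz, h3])] at hwo'
  rcases hwo' with rfl | rfl | rfl
  · exact ⟨1, one_mem E, rfl, rfl⟩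
  · exact ⟨e₁, he₁, hex, rfl⟩
  · exact ⟨e₁ * e₁, mul_mem he₁ he₁, by rw [MulAut.mul_apply, hex, hex], rfl⟩

/-- The orbit structure. -/
theorem exists_sides (hV : Nat.card V = 16) (hE : Nat.card E = 9) :
    ∃ W W' : Subgroup V, Side E W W' ∧ Side E W' W ∧ W ⊓ W' = ⊥ ∧
      ∀ x : V, x ∉ W → x ∉ W' → (∀ x' : V, x' ∉ W → x' ∉ W' → ∃ e ∈ E, e x = x') ∧
        ∀ e ∈ E, e x = x → e = 1 := by
  obtain ⟨x₀, hx₀, hfree⟩ := exists_free hV hE
  have hO : (MulAction.orbit E x₀).ncard = 9 := by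
    rw [← MulAction.index_stabilizer, show MulAction.stabilizer E x₀ = ⊥ from
      (Subgroup.eq_bot_iff_forall _).2 fun e he => Subtype.ext (hfree e e.2 he),
      Subgroup.index_bot, hE]
  have hone : ∀ {r : V}, r ≠ 1 → (1 : V) ∉ MulAction.orbit E r := fun hr ⟨⟨f, hf⟩, h⟩ =>
    hr ((map_eq_one_iff f f.injective).1 h)
  have hdisj : ∀ {r s : V}, s ∉ MulAction.orbit E r → Disjoint (MulAction.orbit E r) (MulAction.orbit E s) :=
    fun {r s} h => Set.disjoint_left.2 fun t ht ht' =>
      h (((MulAction.orbit_eq_iff.2 ht).symm.trans (MulAction.orbit_eq_iff.2 ht')) ▸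
        MulAction.mem_orbit_self s)
  have hthree : ∀ r : V, r ≠ 1 → r ∉ MulAction.orbit E x₀ → (MulAction.orbit E r).ncard = 3 := by
    intro r hr hr'
    rcases ncard_orbit_cases hE r with h | h | h
    · refine absurd (fix_all_trivial hV hE (v := r) fun e he => ?_) hr
      obtain ⟨u, hu⟩ := Set.ncard_eq_one.1 h
      have h1 : r = u := by simpa [hu] using MulAction.mem_orbit_self (M := E) r
      have h2 : e r = u := by
        have : e r ∈ MulAction.orbit E r := ⟨⟨e, he⟩, rfl⟩
        simpa [hu] using this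
      exact h2.trans h1.symm
    · exact h
    · have h1 := Set.ncard_union_eq (hdisj hr')
      have h2 := Set.ncard_le_ncard (Set.subset_univ (MulAction.orbit E x₀ ∪ MulAction.orbit E r))
      rw [Set.ncard_univ, hV] at h2
      omega
  obtain ⟨y, -, hy⟩ : ∃ y ∈ (Set.univ : Set V), y ∉ insert 1 (MulAction.orbit E x₀) :=
    Set.exists_mem_notMem_of_ncard_lt_ncard (lt_of_le_of_lt (Set.ncard_insert_le _ _)
      (by rw [Set.ncard_univ, hV, hO]; norm_num))
  simp only [Set.mem_insert_iff, not_or] at hy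
  have hy3 := hthree y hy.1 hy.2
  obtain ⟨z, -, hz⟩ : ∃ z ∈ (Set.univ : Set V),
      z ∉ insert 1 (MulAction.orbit E x₀ ∪ MulAction.orbit E y) :=
    Set.exists_mem_notMem_of_ncard_lt_ncard (lt_of_le_of_lt ((Set.ncard_insert_le _ _).trans
      (Nat.add_le_add_right (Set.ncard_union_le _ _) 1))
      (by rw [Set.ncard_univ, hV, hO, hy3]; norm_num))
  simp only [Set.mem_insert_iff, Set.mem_union, not_or] at hz
  have hz3 := hthree z hz.1 hz.2.1
  obtain ⟨-, hset, -⟩ := short_orbit hV hE hy.1 hy3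
  obtain ⟨-, hset', -⟩ := short_orbit hV hE hz.1 hz3
  have hyz : y ∉ MulAction.orbit E z := fun h =>
    hz.2.2 (MulAction.orbit_eq_iff.2 h ▸ MulAction.mem_orbit_self z)
  refine ⟨_, _, side_of_orbits hV hE hy.1 hz.1 hy3 hz3 hz.2.2,
    side_of_orbits hV hE hz.1 hy.1 hz3 hy3 hyz, ?_, ?_⟩
  · rw [Subgroup.eq_bot_iff_forall]
    intro t ht
    obtain ⟨h1, h2⟩ := Subgroup.mem_inf.1 ht
    rw [← SetLike.mem_coe, hset] at h1
    rw [← SetLike.mem_coe, hset'] at h2
    rcases h1 with h1 | h1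
    · exact h1
    · rcases h2 with h2 | h2
      · exact h2
      · exact absurd h2 (Set.disjoint_left.1 (hdisj hz.2.2) h1)
  · -- everything else is the free orbit
    have hcover : insert 1 (MulAction.orbit E x₀ ∪ (MulAction.orbit E y ∪ MulAction.orbit E z)) =
        (Set.univ : Set V) := by
      refine Set.eq_of_subset_of_ncard_le (Set.subset_univ _) ?_
      rw [Set.ncard_univ, hV, Set.ncard_insert_of_notMem, Set.ncard_union_eq, Set.ncard_union_eq,
        hO, hy3, hz3]
      · exact hdisj hz.2.2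
      · exact Set.disjoint_union_right.2 ⟨hdisj hy.2, hdisj hz.2.1⟩
      · rintro (h | h | h)
        exacts [hone hx₀ h, hone hy.1 h, hone hz.1 h]
    have hin : ∀ x : V, x ∉ fixSub (stab E y) → x ∉ fixSub (stab E z) →
        x ∈ MulAction.orbit E x₀ := by
      intro x h1 h2
      rw [← SetLike.mem_coe, hset] at h1
      rw [← SetLike.mem_coe, hset'] at h2
      simp only [Set.mem_insert_iff, not_or] at h1 h2
      have := hcover.symm ▸ Set.mem_univ x
      simp only [Set.mem_insert_iff, Set.mem_union] at this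
      tauto
    intro x h1 h2
    obtain ⟨⟨f, hf⟩, hfx⟩ := hin x h1 h2
    refine ⟨fun x' h1' h2' => ?_, fun e he hex => hfree e he (f.injective ?_)⟩
    · obtain ⟨⟨f', hf'⟩, hfx'⟩ := hin x' h1' h2'
      refine ⟨f' * f⁻¹, mul_mem hf' (inv_mem hf), ?_⟩
      rw [MulAut.mul_apply, ← hfx, ← hfx']
      show f' (f⁻¹ (f x₀)) = f' x₀
      simp [MulAut.inv_apply]
    · show f (e x₀) = f x₀
      rw [← MulAut.mul_apply, comm_of_nine hE hf he, MulAut.mul_apply]
      show e (f x₀) = f x₀
      rw [show f x₀ = x from hfx]; exact hex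

end CfsgLib.Elem16
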